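import Cfsg.Agent.Rudvalis.Aut.Bound

/-!
# The Rudvalis group of the lattice is the permutation model

The kernel of the action on lines is the group of four scalars, and it is the centre.
-/

set_option autoImplicit false

namespace Cfsg.Lib.Rudvalis

open Cfsg.Spor

theorem linePerm_mem (g : fourRu) : linePerm g ∈ RuModel.ruGroup := lineGroup_eq ▸ MonoidHom.mem_range.mpr ⟨g, rfl⟩

/-- The action with values in the permutation model. -/
noncomputable def toModel : fourRu →* RuModel.ruGroup := linePerm.codRestrict _ linePerm_mem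

theorem toModel_surjective : Function.Surjective toModel := fun σ => by
  obtain ⟨g, hg⟩ := ruGroup_le_range σ.2
  exact ⟨g, Subtype.ext hg⟩

theorem apply_pow (g : fourRu) (u : ℕ) (z w : ruLattice) (h : (w : RuVec) = gI ^ u • (z : RuVec)) :
    ((g.1 w : ruLattice) : RuVec) = gI ^ u • ((g.1 z : ruLattice) : RuVec) := aut_pow g u z w h

theorem central_of_scalar {g : fourRu} {u : ℕ}
    (h : ∀ z : ruLattice, ((g.1 z : ruLattice) : RuVec) = gI ^ u • (z : RuVec)) : g ∈ Subgroup.center fourRu := by
  refine Subgroup.mem_center_iff.mpr fun k => Subtype.ext (Equiv.ext fun z => Subtype.ext ?_)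
  show ((k.1 (g.1 z) : ruLattice) : RuVec) = ((g.1 (k.1 z) : ruLattice) : RuVec)
  rw [h, apply_pow k u z (g.1 z) (h z)]

theorem scalar_of_kernel {g : fourRu} (h : toModel g = 1) :
    ∃ u : ℕ, ∀ z : ruLattice, ((g.1 z : ruLattice) : RuVec) = gI ^ u • (z : RuVec) :=
  scalar_of_fixes g fun x _ => by
    have : linePerm g = 1 := congrArg Subtype.val h
    rw [this, Equiv.Perm.one_apply]

theorem not_comm_model : ¬ ∀ a b : RuModel.ruGroup, a * b = b * a := by
  intro h
  have : IsSimpleGroup RuModel.ruGroup := RuModel.ru_simple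
  let inst : CommGroup RuModel.ruGroup := { (inferInstance : Group RuModel.ruGroup) with mul_comm := h }
  have hp : (Nat.card RuModel.ruGroup).Prime := IsSimpleGroup.prime_card
  rw [RuModel.ruGroup, RuModel.card_ru] at hp
  norm_num at hp

theorem center_model : Subgroup.center RuModel.ruGroup = ⊥ := by
  have : IsSimpleGroup RuModel.ruGroup := RuModel.ru_simple
  rcases (inferInstance : (Subgroup.center RuModel.ruGroup).Normal).eq_bot_or_eq_top with h | h
  · exact h
  · refine absurd (fun a b => ?_) not_comm_model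
    exact (Subgroup.mem_center_iff.mp (h ▸ Subgroup.mem_top b) a)

theorem ker_toModel : toModel.ker = Subgroup.center fourRu := by
  refine le_antisymm (fun g hg => ?_) fun g hg => ?_
  · obtain ⟨u, hu⟩ := scalar_of_kernel hg
    exact central_of_scalar hu
  · have : toModel g ∈ Subgroup.center RuModel.ruGroup :=
      Subgroup.mem_center_iff.mpr fun y => by
        obtain ⟨k, rfl⟩ := toModel_surjective y
        rw [← map_mul, Subgroup.mem_center_iff.mp hg k, map_mul]
    rwa [center_model, Subgroup.mem_bot] at this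

/-- The Rudvalis group of the lattice is the model. -/
noncomputable def ruEquiv : Spor.Ru ≃* RuModel.ruGroup :=
  (QuotientGroup.quotientMulEquivOfEq ker_toModel.symm).trans
    (QuotientGroup.quotientKerEquivOfSurjective toModel toModel_surjective)

theorem ruI_four (v : ruLattice) : ruI (ruI (ruI (ruI v))) = v := by
  apply Subtype.ext
  show gI • gI • gI • gI • (v : RuVec) = (v : RuVec)
  rw [smul_smul, smul_smul, smul_smul, show gI * gI * gI * gI = 1 from rfl, one_smul]

/-- The scalar of order four. -/
def iAut : fourRu :=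
  ⟨⟨ruI, fun v => ruI (ruI (ruI v)), ruI_four, ruI_four⟩,
    fun v w => Subtype.ext (smul_add gI (v : RuVec) w), fun _ => rfl, fun v => by
      show ruNorm (gI • (v : RuVec)) = ruNorm (v : RuVec)
      rw [ruNorm_eq, ruNorm_eq]
      exact dot_gI _ _⟩

theorem iAut_pow : ∀ (u : ℕ) (z : ruLattice), (((iAut ^ u).1 z : ruLattice) : RuVec) = gI ^ u • (z : RuVec)
  | 0, z => by simp
  | u + 1, z => by
    rw [pow_succ']
    show gI • (((iAut ^ u).1 z : ruLattice) : RuVec) = _
    rw [iAut_pow u z, smul_smul, pow_succ']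

theorem center_eq : Subgroup.center fourRu = Subgroup.zpowers iAut := by
  refine le_antisymm (fun g hg => ?_) ((Subgroup.zpowers_le).mpr
    (central_of_scalar (u := 1) fun z => by simpa using iAut_pow 1 z))
  obtain ⟨u, hu⟩ := scalar_of_kernel (MonoidHom.mem_ker.mp (ker_toModel.symm ▸ hg : g ∈ toModel.ker))
  have : g = iAut ^ u := Subtype.ext (Equiv.ext fun z => Subtype.ext (by rw [hu, iAut_pow]))
  exact this ▸ Subgroup.npow_mem_zpowers _ _

theorem card_center : Nat.card (Subgroup.center fourRu) = 4 := by
  rw [center_eq, Nat.card_zpowers]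
  refine orderOf_eq_prime_pow (p := 2) (n := 1) ?_ ?_
  · intro h
    have e := iAut_pow (2 ^ 1) (latLine 0)
    rw [h] at e
    have h1 := congrArg (fun w => dot w (lineVec 0)) (show lineVec 0 = gI ^ (2 ^ 1) • lineVec 0 from e)
    simp only [pow_one, pow_two, show gI * gI = -1 from rfl, neg_one_smul] at h1
    rw [dot_comm (-lineVec 0), dot_neg, dot_lineVec] at h1
    norm_num at h1
  · exact Subtype.ext (Equiv.ext fun z => Subtype.ext (by
      rw [iAut_pow, show gI ^ (2 ^ (1 + 1)) = 1 from rfl, one_smul]; rfl))

theorem card_ru : Nat.card Spor.Ru = 145926144000 := by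
  rw [Nat.card_congr ruEquiv.toEquiv, RuModel.ruGroup, RuModel.card_ru]

theorem ru_simple : IsSimpleGroup Spor.Ru :=
  have : IsSimpleGroup RuModel.ruGroup := RuModel.ru_simple
  haveI : Nontrivial Spor.Ru := ruEquiv.toEquiv.nontrivial
  IsSimpleGroup.isSimpleGroup_of_surjective ruEquiv.symm.toMonoidHom ruEquiv.symm.surjective

end Cfsg.Lib.Rudvalis
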