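import Cfsg.Agent.Rudvalis.Aut.Reduce

/-!
# Linear maps given by the images of the scaled unit vectors

The image of a vector is a quarter of the combination of the images.
-/

set_option autoImplicit false

namespace Cfsg.Lib.Rudvalis

open Cfsg.Spor

/-- The place of a coordinate among the 28. -/
def pIdx (p : RuIdx) : ℕ := (finProdFinEquiv p : Fin 28)

/-- The combination of the images. -/
def smulU (U : List ℕ) (v : RuVec) : RuVec := ∑ p : RuIdx, v p • vec (U.getD (pIdx p) 0)

/-- A quarter of the combination. -/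
def mapU (U : List ℕ) (v : RuVec) : RuVec :=
  fun p => ⟨(smulU U v p).re / 4, (smulU U v p).im / 4⟩

/-- The images of the real unit vectors. -/
def rowU (U : List ℕ) (l : ℕ) : ℕ := if l % 2 = 0 then U.getD (l / 2) 0 else rotC (U.getD (l / 2) 0)

theorem smulU_add (U : List ℕ) (v w : RuVec) : smulU U (v + w) = smulU U v + smulU U w := by
  simp only [smulU, Pi.add_apply, add_smul, Finset.sum_add_distrib]

theorem smulU_gI (U : List ℕ) (v : RuVec) : smulU U (gI • v) = gI • smulU U v := by
  simp only [smulU, Finset.smul_sum, smul_smul, Pi.smul_apply, smul_eq_mul]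

theorem smulU_neg (U : List ℕ) (v : RuVec) : smulU U (-v) = -smulU U v := by
  simp only [smulU, Pi.neg_apply, neg_smul, Finset.sum_neg_distrib]

theorem herm_sum_left {ι : Type*} (s : Finset ι) (f : ι → RuVec) (w : RuVec) :
    herm (∑ i ∈ s, f i) w = ∑ i ∈ s, herm (f i) w := by
  simp only [herm, Finset.sum_apply, star_sum, Finset.sum_mul]
  exact Finset.sum_comm

theorem herm_sum_right {ι : Type*} (s : Finset ι) (v : RuVec) (f : ι → RuVec) :
    herm v (∑ i ∈ s, f i) = ∑ i ∈ s, herm v (f i) := by
  simp only [herm, Finset.sum_apply, Finset.mul_sum]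
  exact Finset.sum_comm

theorem smul_parts (z : GaussianInt) (w : RuVec) : z • w = z.re • w + z.im • (gI • w) := by
  funext p
  simp only [Pi.add_apply, Pi.smul_apply, smul_eq_mul, zsmul_eq_mul]
  ext <;> simp [gI]

theorem flat_smulU (U : List ℕ) (v : RuVec) (j : Fin 56) :
    flat (smulU U v) j = ∑ l : Fin 56, flat v l * wt (rowU U l) j := by
  rw [← Equiv.sum_comp coordEquiv, Fintype.sum_prod_type]
  show flatHom (smulU U v) j = _
  rw [smulU, map_sum, Finset.sum_apply]
  refine Finset.sum_congr rfl fun p _ => ?_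
  rw [smul_parts, map_add, map_zsmul, map_zsmul, Fin.sum_univ_two, ← vec_rotC]
  have hv : ∀ t : Fin 2, ((coordEquiv (p, t) : Fin 56) : ℕ) = 2 * pIdx p + (t : ℕ) := fun t => by
    simp only [pIdx, coordEquiv, Equiv.trans_apply, Equiv.prodCongr_apply, Prod.map, Equiv.refl_apply]
    rw [finProdFinEquiv_apply_val]
    dsimp only
    omega
  simp only [Pi.add_apply, Pi.smul_apply, smul_eq_mul, flatHom, AddMonoidHom.mk'_apply, flat_vec]
  simp [flat, rowU, hv, Nat.mul_add_div]

/-- The value of a vector with given real coordinates. -/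
def sval (U : List ℕ) (f : ℕ → ℤ) (j : ℕ) : ℤ := ((List.range 56).map fun l => f l * wt (rowU U l) j).sum

theorem flat_smulU_sval (U : List ℕ) (v : RuVec) (f : ℕ → ℤ) (hf : ∀ l : Fin 56, flat v l = f l) (j : Fin 56) :
    flat (smulU U v) j = sval U f j := by
  rw [flat_smulU, sval, ← List.sum_toFinset _ List.nodup_range, List.toFinset_range,
    Finset.sum_range fun l => f l * wt (rowU U l) j]
  exact Finset.sum_congr rfl fun l _ => by rw [hf]

theorem flat_mapU (U : List ℕ) (v : RuVec) (j : Fin 56) : flat (mapU U v) j = flat (smulU U v) j / 4 := by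
  simp only [flat, mapU]
  split <;> rfl

/-- The image of a generator. -/
def genImage (U : List ℕ) (i : Fin 40) : RuVec :=
  unflat fun j => sval U (fun l => digit (genRows.getD i 0) l) j / 4

/-- The images are orthogonal. -/
def orthOK (U : List ℕ) (k : ℕ) : Bool :=
  (List.range 28).all fun l => decide (hC (U.getD k 0) (U.getD l 0) = if k = l then 16 else 0)

/-- The image of a real unit vector lies in the lattice and fits the matrix. -/
def rowOK (U R : List ℕ) (M l : ℕ) : Bool :=
  coordsOK (vec (rowU U l)) (R.getD l 0) &&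
    red (vec (rowU U l)) == RuModel.vap (red (unflat fun j => if (j : ℕ) = l then 4 else 0)) M

/-- The image of a generator lies in the lattice and fits the matrix. -/
def genOK (U G : List ℕ) (M i : ℕ) : Bool :=
  if h : i < 40 then
    (List.range 56).all (fun j => sval U (fun l => digit (genRows.getD i 0) l) j % 4 == 0) &&
      (coordsOK (genImage U ⟨i, h⟩) (G.getD i 0) &&
        red (genImage U ⟨i, h⟩) == RuModel.vap (red (gen ⟨i, h⟩)) M)
  else false

/-- The data of a checked map. -/
structure GoodMap (U : List ℕ) (M : ℕ) : Prop where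
  orth' : RuModel.chk (orthOK U) 0 28 = true
  rows : ∃ R : List ℕ, RuModel.chk (rowOK U R M) 0 56 = true
  gens : ∃ G : List ℕ, RuModel.chk (genOK U G M) 0 40 = true

/-- The four times unit vectors. -/
def four (l : Fin 56) : RuVec := unflat fun j => if j = l then 4 else 0

theorem span_induction {P : RuVec → Prop} (hgen : ∀ i, P (gen i)) (hfour : ∀ l, P (four l)) (h0 : P 0)
    (hadd : ∀ v ∈ span, ∀ w ∈ span, P v → P w → P (v + w)) (hneg : ∀ v ∈ span, P v → P (-v)) {v : RuVec}
    (hv : v ∈ span) : P v := by
  let L : AddSubgroup RuVec :=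
    { carrier := {v | v ∈ span ∧ P v}
      zero_mem' := ⟨span.zero_mem, h0⟩
      add_mem' := fun ha hb => ⟨add_mem ha.1 hb.1, hadd _ ha.1 _ hb.1 ha.2 hb.2⟩
      neg_mem' := fun ha => ⟨neg_mem ha.1, hneg _ ha.1 ha.2⟩ }
  have h4 : ∀ l, four l ∈ span := fun l => AddSubgroup.subset_closure (Or.inr ⟨unflat fun j => if j = l then 1 else 0,
    flat_injective (funext fun j => by rw [four, flat_unflat, flat_zsmul, Pi.smul_apply, flat_unflat]; split <;> simp)⟩)
  have hle : span ≤ L := by
    refine (AddSubgroup.closure_le _).mpr ?_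
    rintro x (⟨i, rfl⟩ | ⟨u, rfl⟩)
    · exact ⟨AddSubgroup.subset_closure (Or.inl ⟨i, rfl⟩), hgen i⟩
    · have : (4 : ℤ) • u = ∑ l : Fin 56, flat u l • four l := by
        refine flat_injective (funext fun i => ?_)
        show _ = flatHom (∑ l : Fin 56, flat u l • four l) i
        rw [map_sum, Finset.sum_apply, flat_zsmul]
        simp only [map_zsmul, Pi.smul_apply, smul_eq_mul]
        rw [Finset.sum_eq_single i]
        · simp [flatHom, four, flat_unflat, mul_comm]
        · intro b _ hb; simp [flatHom, four, flat_unflat, Ne.symm hb]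
        · simp
      show _ ∈ L
      rw [this]
      exact sum_mem fun l _ => AddSubgroup.zsmul_mem _ (show four l ∈ L from ⟨h4 l, hfour l⟩) _
  exact (hle hv).2

/-- A map sends the lattice into itself and is compatible with the matrix. -/
structure MapFacts (U : List ℕ) (M : ℕ) (v : RuVec) : Prop where
  four_smul : (4 : ℤ) • mapU U v = smulU U v
  mem : mapU U v ∈ span
  red_eq : red (mapU U v) = RuModel.vap (red v) M

theorem GoodMap.orth {U : List ℕ} {M : ℕ} (h : GoodMap U M) (p q : RuIdx) :
    herm (vec (U.getD (pIdx p) 0)) (vec (U.getD (pIdx q) 0)) = if p = q then 16 else 0 := by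
  have h' := RuModel.chk_apply h.orth' (i := pIdx p) (Fin.isLt _)
  simp only [orthOK, List.all_eq_true, List.mem_range, decide_eq_true_eq] at h'
  rw [herm_vec, h' (pIdx q) (Fin.isLt _)]
  by_cases e : p = q
  · rw [if_pos e, if_pos (by rw [e])]
  · rw [if_neg e, if_neg (show pIdx p ≠ pIdx q from fun e' => e (finProdFinEquiv.injective (Fin.ext e')))]

theorem four_inj {a b : RuVec} (h : (4 : ℤ) • a = (4 : ℤ) • b) : a = b :=
  flat_injective (funext fun j => by
    have := congrFun (congrArg flat h) j
    simp only [flat_zsmul, Pi.smul_apply, smul_eq_mul] at this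
    omega)

theorem vap_zero (M : ℕ) : RuModel.vap 0 M = 0 := RuModel.vapR_zero M 28

theorem GoodMap.facts {U : List ℕ} {M : ℕ} (h : GoodMap U M) {v : RuVec} (hv : v ∈ span) : MapFacts U M v := by
  obtain ⟨R, hrows⟩ := h.rows
  obtain ⟨G, hgens⟩ := h.gens
  have hfour : ∀ l : Fin 56, coordsOK (vec (rowU U l)) (R.getD l 0) = true ∧
      red (vec (rowU U l)) = RuModel.vap (red (four l)) M := fun l => by
    have e : four l = unflat fun j => if (j : ℕ) = (l : ℕ) then 4 else 0 := by
      simp only [four, Fin.ext_iff]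
    have h' := RuModel.chk_apply hrows l.isLt
    simp only [rowOK, Bool.and_eq_true, beq_iff_eq] at h'
    rw [e]
    exact h'
  have hgen : ∀ i : Fin 40, (∀ j, j < 56 → sval U (fun l => digit (genRows.getD i 0) l) j % 4 = 0) ∧
      coordsOK (genImage U i) (G.getD i 0) = true ∧ red (genImage U i) = RuModel.vap (red (gen i)) M := fun i => by
    have h' := RuModel.chk_apply hgens i.isLt
    simp only [genOK, dif_pos i.isLt, Bool.and_eq_true, List.all_eq_true, List.mem_range, beq_iff_eq] at h'
    exact h'
  refine span_induction (P := MapFacts U M) (fun i => ?_) (fun l => ?_) ?_ (fun a ha b hb fa fb => ?_)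
    (fun a ha fa => ?_) hv
  · obtain ⟨hdiv, hmem, hred⟩ := hgen i
    have e : mapU U (gen i) = genImage U i := flat_injective (funext fun j => by
      rw [flat_mapU, flat_smulU_sval U (gen i) (fun l => digit (genRows.getD i 0) l) (flat_gen i) j, genImage,
        flat_unflat])
    refine ⟨flat_injective (funext fun j => ?_), e ▸ mem_span_of_coords hmem, e ▸ hred⟩
    rw [flat_zsmul, Pi.smul_apply, flat_mapU, flat_smulU_sval U (gen i) (fun l => digit (genRows.getD i 0) l)
      (flat_gen i) j, smul_eq_mul]
    have := hdiv j j.isLt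
    omega
  · obtain ⟨hmem, hred⟩ := hfour l
    have hs : smulU U (four l) = (4 : ℤ) • vec (rowU U l) := flat_injective (funext fun j => by
      rw [flat_smulU, Finset.sum_eq_single l (fun b _ hb => by simp [four, flat_unflat, hb]) (by simp),
        flat_zsmul, Pi.smul_apply, flat_vec, four, flat_unflat, if_pos rfl, smul_eq_mul])
    have e : mapU U (four l) = vec (rowU U l) := flat_injective (funext fun j => by
      rw [flat_mapU, hs, flat_zsmul, Pi.smul_apply, smul_eq_mul, Int.mul_ediv_cancel_left _ (by norm_num)])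
    exact ⟨by rw [e, hs], e ▸ mem_span_of_coords hmem, e ▸ hred⟩
  · have e : mapU U 0 = 0 := by
      funext p
      simp [mapU, smulU]
      rfl
    exact ⟨by rw [e]; simp [smulU], by rw [e]; exact span.zero_mem, by rw [e, red_zero, vap_zero]⟩
  · have e : mapU U (a + b) = mapU U a + mapU U b := four_inj (by
      rw [smul_add, fa.four_smul, fb.four_smul, ← smulU_add]
      refine flat_injective (funext fun j => ?_)
      rw [flat_zsmul, Pi.smul_apply, flat_mapU, smul_eq_mul]
      refine Int.mul_ediv_cancel' ?_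
      rw [smulU_add, flat_add, Pi.add_apply, ← fa.four_smul, ← fb.four_smul, flat_zsmul, flat_zsmul, Pi.smul_apply,
        Pi.smul_apply, smul_eq_mul, smul_eq_mul]
      exact dvd_add (dvd_mul_right _ _) (dvd_mul_right _ _))
    refine ⟨by rw [e, smul_add, fa.four_smul, fb.four_smul, smulU_add], e ▸ add_mem fa.mem fb.mem, ?_⟩
    rw [e, red_add fa.mem fb.mem, red_add ha hb, fa.red_eq, fb.red_eq]
    exact (RuModel.vapR_xor _ _ M 28).symm
  · have e : mapU U (-a) = -mapU U a := four_inj (by
      rw [smul_neg, fa.four_smul, ← smulU_neg]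
      refine flat_injective (funext fun j => ?_)
      rw [flat_zsmul, Pi.smul_apply, flat_mapU, smul_eq_mul]
      refine Int.mul_ediv_cancel' ?_
      rw [smulU_neg, flat_neg, Pi.neg_apply, ← fa.four_smul, flat_zsmul, Pi.smul_apply, smul_eq_mul]
      exact dvd_neg.mpr (dvd_mul_right _ _))
    refine ⟨by rw [e, smul_neg, fa.four_smul, smulU_neg], e ▸ neg_mem fa.mem, ?_⟩
    rw [e, red_neg fa.mem, red_neg ha, fa.red_eq]

theorem GoodMap.mapU_add {U : List ℕ} {M : ℕ} (h : GoodMap U M) {v w : RuVec} (hv : v ∈ span) (hw : w ∈ span) :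
    mapU U (v + w) = mapU U v + mapU U w :=
  four_inj (by
    rw [(h.facts (add_mem hv hw)).four_smul, smul_add, (h.facts hv).four_smul, (h.facts hw).four_smul, smulU_add])

theorem GoodMap.mapU_gI {U : List ℕ} {M : ℕ} (h : GoodMap U M) {v : RuVec} (hv : v ∈ span) :
    mapU U (gI • v) = gI • mapU U v :=
  four_inj (by rw [(h.facts (gI_mem hv)).four_smul, smulU_gI, ← (h.facts hv).four_smul, smul_comm])

theorem GoodMap.dot_mapU {U : List ℕ} {M : ℕ} (h : GoodMap U M) {v : RuVec} (hv : v ∈ span) :
    dot (mapU U v) (mapU U v) = dot v v := by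
  have hh : herm (smulU U v) (smulU U v) = 16 * herm v v := by
    have e : herm (smulU U v) (smulU U v) =
        ∑ p, ∑ q, star (v p) * v q * herm (vec (U.getD (pIdx p) 0)) (vec (U.getD (pIdx q) 0)) := by
      rw [smulU, herm_sum_left]
      refine Finset.sum_congr rfl fun p _ => ?_
      rw [herm_sum_right]
      exact Finset.sum_congr rfl fun q _ => herm_smul _ _ _ _
    rw [e, herm, Finset.mul_sum]
    refine Finset.sum_congr rfl fun p _ => ?_
    simp only [h.orth, mul_ite, mul_zero, Finset.sum_ite_eq, Finset.mem_univ, if_true]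
    ring
  rw [← (h.facts hv).four_smul] at hh
  have h2 := congrArg Zsqrtd.re hh
  rw [herm_eq, herm_eq, Zsqrtd.re_mul] at h2
  simp only [dot_four, dot_comm _ (mapU U v)] at h2
  simp only [show (16 : GaussianInt).re = 16 from rfl, show (16 : GaussianInt).im = 0 from rfl, mul_zero,
    zero_mul, add_zero] at h2
  omega

end Cfsg.Lib.Rudvalis
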