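import Cfsg.Agent.Rudvalis.Aut.MapDefs

/-!
# The second generator comes from a lattice map

The images are checked against the second matrix of the permutation model.
-/

set_option autoImplicit false

namespace Cfsg.Lib.Rudvalis

theorem orthB_ok : RuModel.chk (orthOK imgsB) 0 28 = true := by decide +kernel

theorem rowsB_0 : RuModel.chk (rowOK imgsB imgRowsB (RuModel.ru0.mat 1)) 0 14 = true := by decide +kernel

theorem rowsB_1 : RuModel.chk (rowOK imgsB imgRowsB (RuModel.ru0.mat 1)) 14 14 = true := by decide +kernel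

theorem rowsB_2 : RuModel.chk (rowOK imgsB imgRowsB (RuModel.ru0.mat 1)) 28 14 = true := by decide +kernel

theorem rowsB_3 : RuModel.chk (rowOK imgsB imgRowsB (RuModel.ru0.mat 1)) 42 14 = true := by decide +kernel

theorem rowsB_ok : RuModel.chk (rowOK imgsB imgRowsB (RuModel.ru0.mat 1)) 0 56 = true :=
  (RuModel.chk_join (RuModel.chk_join (RuModel.chk_join rowsB_0 rowsB_1 rfl rfl) rowsB_2 rfl rfl) rowsB_3 rfl rfl)

theorem gensB_0 : RuModel.chk (genOK imgsB genImgsB (RuModel.ru0.mat 1)) 0 5 = true := by decide +kernel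

theorem gensB_1 : RuModel.chk (genOK imgsB genImgsB (RuModel.ru0.mat 1)) 5 5 = true := by decide +kernel

theorem gensB_2 : RuModel.chk (genOK imgsB genImgsB (RuModel.ru0.mat 1)) 10 5 = true := by decide +kernel

theorem gensB_3 : RuModel.chk (genOK imgsB genImgsB (RuModel.ru0.mat 1)) 15 5 = true := by decide +kernel

theorem gensB_4 : RuModel.chk (genOK imgsB genImgsB (RuModel.ru0.mat 1)) 20 5 = true := by decide +kernel

theorem gensB_5 : RuModel.chk (genOK imgsB genImgsB (RuModel.ru0.mat 1)) 25 5 = true := by decide +kernel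

theorem gensB_6 : RuModel.chk (genOK imgsB genImgsB (RuModel.ru0.mat 1)) 30 5 = true := by decide +kernel

theorem gensB_7 : RuModel.chk (genOK imgsB genImgsB (RuModel.ru0.mat 1)) 35 5 = true := by decide +kernel

theorem gensB_ok : RuModel.chk (genOK imgsB genImgsB (RuModel.ru0.mat 1)) 0 40 = true :=
  (RuModel.chk_join (RuModel.chk_join (RuModel.chk_join (RuModel.chk_join (RuModel.chk_join (RuModel.chk_join (RuModel.chk_join gensB_0 gensB_1 rfl rfl) gensB_2 rfl rfl) gensB_3 rfl rfl) gensB_4 rfl rfl) gensB_5 rfl rfl) gensB_6 rfl rfl) gensB_7 rfl rfl)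

theorem goodB : GoodMap imgsB (RuModel.ru0.mat 1) :=
  ⟨orthB_ok, ⟨_, rowsB_ok⟩, ⟨_, gensB_ok⟩⟩

end Cfsg.Lib.Rudvalis
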