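import Cfsg.Agent.Rudvalis.Aut.Complete

/-!
# Checks of the certificates for the light words

One statement for each part of the list, parts 0 to 17.
-/

set_option autoImplicit false

namespace Cfsg.Lib.Rudvalis

theorem entsPart0_ok : entsPart0.all Ent.ok = true := by decide +kernel

theorem entsPart1_ok : entsPart1.all Ent.ok = true := by decide +kernel

theorem entsPart2_ok : entsPart2.all Ent.ok = true := by decide +kernel

theorem entsPart3_ok : entsPart3.all Ent.ok = true := by decide +kernel

theorem entsPart4_ok : entsPart4.all Ent.ok = true := by decide +kernel

theorem entsPart5_ok : entsPart5.all Ent.ok = true := by decide +kernel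

theorem entsPart6_ok : entsPart6.all Ent.ok = true := by decide +kernel

theorem entsPart7_ok : entsPart7.all Ent.ok = true := by decide +kernel

theorem entsPart8_ok : entsPart8.all Ent.ok = true := by decide +kernel

theorem entsPart9_ok : entsPart9.all Ent.ok = true := by decide +kernel

theorem entsPart10_ok : entsPart10.all Ent.ok = true := by decide +kernel

theorem entsPart11_ok : entsPart11.all Ent.ok = true := by decide +kernel

theorem entsPart12_ok : entsPart12.all Ent.ok = true := by decide +kernel

theorem entsPart13_ok : entsPart13.all Ent.ok = true := by decide +kernel

theorem entsPart14_ok : entsPart14.all Ent.ok = true := by decide +kernel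

theorem entsPart15_ok : entsPart15.all Ent.ok = true := by decide +kernel

theorem entsPart16_ok : entsPart16.all Ent.ok = true := by decide +kernel

theorem entsPart17_ok : entsPart17.all Ent.ok = true := by decide +kernel

end Cfsg.Lib.Rudvalis
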