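import Cfsg.Agent.Rudvalis.Aut.Complete

/-!
# Checks of the certificates for the light words

One statement for each part of the list, parts 18 to 35.
-/

set_option autoImplicit false

namespace Cfsg.Lib.Rudvalis

theorem entsPart18_ok : entsPart18.all Ent.ok = true := by decide +kernel

theorem entsPart19_ok : entsPart19.all Ent.ok = true := by decide +kernel

theorem entsPart20_ok : entsPart20.all Ent.ok = true := by decide +kernel

theorem entsPart21_ok : entsPart21.all Ent.ok = true := by decide +kernel

theorem entsPart22_ok : entsPart22.all Ent.ok = true := by decide +kernel

theorem entsPart23_ok : entsPart23.all Ent.ok = true := by decide +kernel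

theorem entsPart24_ok : entsPart24.all Ent.ok = true := by decide +kernel

theorem entsPart25_ok : entsPart25.all Ent.ok = true := by decide +kernel

theorem entsPart26_ok : entsPart26.all Ent.ok = true := by decide +kernel

theorem entsPart27_ok : entsPart27.all Ent.ok = true := by decide +kernel

theorem entsPart28_ok : entsPart28.all Ent.ok = true := by decide +kernel

theorem entsPart29_ok : entsPart29.all Ent.ok = true := by decide +kernel

theorem entsPart30_ok : entsPart30.all Ent.ok = true := by decide +kernel

theorem entsPart31_ok : entsPart31.all Ent.ok = true := by decide +kernel

theorem entsPart32_ok : entsPart32.all Ent.ok = true := by decide +kernel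

theorem entsPart33_ok : entsPart33.all Ent.ok = true := by decide +kernel

theorem entsPart34_ok : entsPart34.all Ent.ok = true := by decide +kernel

theorem entsPart35_ok : entsPart35.all Ent.ok = true := by decide +kernel

end Cfsg.Lib.Rudvalis
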