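import Cfsg.Agent.Rudvalis.Aut.Complete

/-!
# Checks of the certificates for the light words

One statement for each part of the list, parts 36 to 53.
-/

set_option autoImplicit false

namespace Cfsg.Lib.Rudvalis

theorem entsPart36_ok : entsPart36.all Ent.ok = true := by decide +kernel

theorem entsPart37_ok : entsPart37.all Ent.ok = true := by decide +kernel

theorem entsPart38_ok : entsPart38.all Ent.ok = true := by decide +kernel

theorem entsPart39_ok : entsPart39.all Ent.ok = true := by decide +kernel

theorem entsPart40_ok : entsPart40.all Ent.ok = true := by decide +kernel

theorem entsPart41_ok : entsPart41.all Ent.ok = true := by decide +kernel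

theorem entsPart42_ok : entsPart42.all Ent.ok = true := by decide +kernel

theorem entsPart43_ok : entsPart43.all Ent.ok = true := by decide +kernel

theorem entsPart44_ok : entsPart44.all Ent.ok = true := by decide +kernel

theorem entsPart45_ok : entsPart45.all Ent.ok = true := by decide +kernel

theorem entsPart46_ok : entsPart46.all Ent.ok = true := by decide +kernel

theorem entsPart47_ok : entsPart47.all Ent.ok = true := by decide +kernel

theorem entsPart48_ok : entsPart48.all Ent.ok = true := by decide +kernel

theorem entsPart49_ok : entsPart49.all Ent.ok = true := by decide +kernel

theorem entsPart50_ok : entsPart50.all Ent.ok = true := by decide +kernel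

theorem entsPart51_ok : entsPart51.all Ent.ok = true := by decide +kernel

theorem entsPart52_ok : entsPart52.all Ent.ok = true := by decide +kernel

theorem entsPart53_ok : entsPart53.all Ent.ok = true := by decide +kernel

end Cfsg.Lib.Rudvalis
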