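import Cfsg.Agent.Rudvalis.Aut.Survivors
import Cfsg.Agent.Rudvalis.Aut.EntCheck0
import Cfsg.Agent.Rudvalis.Aut.EntCheck1
import Cfsg.Agent.Rudvalis.Aut.EntCheck2

/-!
# The shortest vectors of the lattice of the Rudvalis group

Every vector of norm sixteen is a unit multiple of a listed line.
-/

set_option autoImplicit false

namespace Cfsg.Lib.Rudvalis

open Cfsg.Spor

theorem ent_ok {e : Ent} (h : e ∈ entsParts.flatten) : e.ok = true := by
  have key : entsParts.all (fun p => p.all Ent.ok) = true := by
    simp only [entsParts, List.all_cons, List.all_nil, Bool.and_true,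
      entsPart0_ok, entsPart1_ok, entsPart2_ok, entsPart3_ok, entsPart4_ok, entsPart5_ok,
      entsPart6_ok, entsPart7_ok, entsPart8_ok, entsPart9_ok, entsPart10_ok, entsPart11_ok,
      entsPart12_ok, entsPart13_ok, entsPart14_ok, entsPart15_ok, entsPart16_ok, entsPart17_ok,
      entsPart18_ok, entsPart19_ok, entsPart20_ok, entsPart21_ok, entsPart22_ok, entsPart23_ok,
      entsPart24_ok, entsPart25_ok, entsPart26_ok, entsPart27_ok, entsPart28_ok, entsPart29_ok,
      entsPart30_ok, entsPart31_ok, entsPart32_ok, entsPart33_ok, entsPart34_ok, entsPart35_ok,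
      entsPart36_ok, entsPart37_ok, entsPart38_ok, entsPart39_ok, entsPart40_ok, entsPart41_ok,
      entsPart42_ok, entsPart43_ok, entsPart44_ok, entsPart45_ok, entsPart46_ok, entsPart47_ok,
      entsPart48_ok, entsPart49_ok, entsPart50_ok, entsPart51_ok, entsPart52_ok, entsPart53_ok]
  obtain ⟨p, hp, he⟩ := List.mem_flatten.mp h
  exact List.all_eq_true.mp (List.all_eq_true.mp key p hp) e he

/-- The columns of the parities are right and no four of them add up to zero. -/
def colsOK : Bool :=
  decide (colKeys.length = 56) && colKeys.all (fun x => decide (x < 2 ^ 40)) &&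
    (List.range 40).all (fun i => (List.range 56).all fun j =>
      (colKeys.getD j 0).testBit i == (loMasks.getD i 0).testBit j) &&
    (List.range 4).all fun k => xfree (k + 1) 0 ((List.finRange 56).map fun j : Fin 56 => colKeys.getD j 0)

theorem cols_ok : colsOK = true := by decide +kernel

/-- The lines of the multiples of unit vectors are right. -/
def frameOK : Bool :=
  (List.range 112).all fun k =>
    let c := unitCode (frameCodes.getD k 0)
    decide (frameCodes.getD k 0 / 4 < 4060) &&
      (List.range 56).all fun j => wt c j == if j = k / 2 then (if k % 2 = 0 then 4 else -4) else 0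

theorem frame_ok : frameOK = true := by decide +kernel

theorem comb_single (rs : List ℕ) (i : ℕ) (hi : i < rs.length) : comb rs (2 ^ i) = rs.getD i 0 := by
  apply Nat.eq_of_testBit_eq
  intro j
  apply b2_inj
  rw [comb_bit, Finset.sum_eq_single_of_mem i (Finset.mem_range.mpr hi) fun a _ ha => by
    rw [Nat.testBit_two_pow, decide_eq_false (Ne.symm ha)]; rfl]
  rw [Nat.testBit_two_pow_self, if_pos rfl]

theorem parOf_single (i : Fin 40) : parOf (2 ^ (i : ℕ)) = loMasks.getD i 0 :=
  comb_single loMasks i (loMasks_length.symm ▸ i.isLt)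

theorem xorAll_lt {b : ℕ} : ∀ {s : List ℕ}, (∀ x ∈ s, x < 2 ^ b) → xorAll s < 2 ^ b
  | [], _ => Nat.two_pow_pos _
  | x :: s, h => Nat.xor_lt_two_pow (h x List.mem_cons_self) (xorAll_lt fun y hy => h y (List.mem_cons_of_mem x hy))

theorem usum_zero (T : ℕ) : usum 0 T = 0 := by
  rw [usum_eq]; simp

/-- The even case: a single large coordinate. -/
theorem shortest_even {v : RuVec} (hv : v ∈ span) {N : ℕ} (h : Shape v 0 N) (h16 : dot v v = 16) :
    ∃ s, s / 4 < 4060 ∧ v = vec (unitCode s) := by
  have hc := cols_ok
  simp only [colsOK, Bool.and_eq_true, decide_eq_true_eq, List.all_eq_true, List.mem_range, beq_iff_eq] at hc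
  obtain ⟨⟨⟨-, hbound⟩, hbit⟩, hfree⟩ := hc
  have hsq : ∀ j : Fin 56, (4 : ℤ) * (if N.testBit j then 1 else 0) ≤ flat v j * flat v j := fun j => by
    obtain ⟨w, hw, hn⟩ := h.odd j
    rw [hw]
    simp only [Nat.zero_testBit, Bool.false_eq_true, if_false]
    cases hb : N.testBit j
    · simp; nlinarith [mul_self_nonneg w]
    · have : 0 < w * w := mul_self_pos.mpr (by have := hn.mp hb; omega)
      simp; nlinarith
  have hle : pc N ≤ 4 := by
    have := Finset.sum_le_sum (s := Finset.univ) fun j _ => hsq j
    rw [← Finset.mul_sum] at this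
    rw [dot] at h16
    rw [h16] at this
    rw [pc_eq]
    have e : ((∑ j : Fin 56, if N.testBit j then 1 else 0 : ℕ) : ℤ) = ∑ j : Fin 56, if N.testBit j then (1 : ℤ) else 0 := by
      push_cast; rfl
    omega
  have hN0 : pc N = 0 := by
    by_contra hne
    set s := ((List.finRange 56).filter fun j : Fin 56 => N.testBit j).map fun j : Fin 56 => colKeys.getD j 0 with hs
    have hlen : s.length = pc N := by rw [hs, List.length_map, filter_length]
    refine xfree_spec (pc N - 1 + 1) 0 _ s (hfree (pc N - 1) (by omega)) (List.filter_sublist.map _) (by omega) ?_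
    apply Nat.eq_of_testBit_eq
    intro i
    by_cases hi : i < 40
    · apply b2_inj
      rw [hs, xorAll_mask (fun j : Fin 56 => colKeys.getD j 0) i N (loMasks.getD i 0) (fun j _ => hbit i hi j j.isLt),
        Nat.zero_testBit]
      have he := shape_eq hv h (2 ^ i)
      rw [usum_zero, parOf_single ⟨i, hi⟩] at he
      show (pc (N &&& loMasks.getD i 0) : ZMod 2) = b2 false
      rw [(ZMod.natCast_eq_zero_iff_even).mpr (Nat.even_iff.mpr (by simp only at he; omega))]
      rfl
    · have hall : ∀ x ∈ s, x < 2 ^ 40 := fun x hx => by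
        rw [hs, List.mem_map] at hx
        obtain ⟨j, -, rfl⟩ := hx
        by_cases hj : (j : ℕ) < colKeys.length
        · rw [List.getD_eq_getElem _ _ hj]; exact hbound _ (List.getElem_mem _)
        · rw [List.getD_eq_default _ _ (by omega)]; norm_num
      have : xorAll s < 2 ^ 40 := xorAll_lt hall
      rw [Nat.zero_testBit, Nat.testBit_eq_false_of_lt (this.trans_le (Nat.pow_le_pow_right two_pos (by omega)))]
  -- all coordinates are divisible by four
  have h4 : ∀ j : Fin 56, ∃ w : ℤ, flat v j = 4 * w := fun j => by
    obtain ⟨w, hw, hn⟩ := h.odd j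
    have : N.testBit j = false := by
      rw [pc_eq] at hN0
      have := Finset.sum_eq_zero_iff.mp hN0 j (Finset.mem_univ j)
      cases hb : N.testBit j
      · rfl
      · simp [hb] at this
    refine ⟨w / 2, ?_⟩
    rw [hw, Nat.zero_testBit, if_neg (by simp)]
    have h' : ¬ w % 2 = 1 := fun e => by simp [hn.mpr e] at this
    omega
  choose w hw using h4
  have hw1 : ∑ j, w j * w j = 1 := by
    have : dot v v = 16 * ∑ j, w j * w j := by
      rw [dot, Finset.mul_sum]; exact Finset.sum_congr rfl fun j _ => by rw [hw]; ring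
    omega
  obtain ⟨j0, hj0⟩ : ∃ j, w j ≠ 0 := by
    by_contra hh
    push Not at hh
    simp [hh] at hw1
  have hone : w j0 = 1 ∨ w j0 = -1 := by
    have h1 : w j0 * w j0 ≤ 1 := hw1 ▸ Finset.single_le_sum (fun k _ => mul_self_nonneg (w k)) (Finset.mem_univ j0)
    rcases (show w j0 ≤ -2 ∨ w j0 = 1 ∨ w j0 = -1 ∨ 2 ≤ w j0 by omega) with h | h | h | h
    · nlinarith
    · exact Or.inl h
    · exact Or.inr h
    · nlinarith
  have hother : ∀ j, j ≠ j0 → w j = 0 := fun j hj => by
    have h2 := Finset.sum_le_sum_of_subset_of_nonneg (s := {j0, j}) (t := Finset.univ) (f := fun k => w k * w k)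
      (Finset.subset_univ _) (fun k _ _ => mul_self_nonneg _)
    rw [Finset.sum_pair (Ne.symm hj), hw1] at h2
    have : 1 ≤ w j0 * w j0 := by rcases hone with e | e <;> rw [e] <;> norm_num
    exact mul_self_eq_zero.mp (le_antisymm (by omega) (mul_self_nonneg _))
  set k := 2 * (j0 : ℕ) + if w j0 = 1 then 0 else 1 with hk
  have hk112 : k < 112 := by have := j0.isLt; rw [hk]; split <;> omega
  have hf := List.all_eq_true.mp frame_ok k (List.mem_range.mpr hk112)
  simp only [Bool.and_eq_true, decide_eq_true_eq, List.all_eq_true, List.mem_range, beq_iff_eq] at hf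
  refine ⟨frameCodes.getD k 0, hf.1, flat_injective (funext fun j => ?_)⟩
  rw [flat_vec, hf.2 j j.isLt, hw, show k / 2 = (j0 : ℕ) by rw [hk]; split <;> omega]
  by_cases hj : j = j0
  · subst hj
    rw [if_pos rfl]
    rcases hone with e | e <;> rw [hk, e] <;> norm_num
  · rw [if_neg (fun e => hj (Fin.ext e)), hother j hj, mul_zero]

/-- Every vector of norm sixteen is a unit multiple of a line. -/
theorem shortest {v : RuVec} (hv : v ∈ span) (h16 : dot v v = 16) :
    ∃ x : Fin 4060, ∃ u, u < 4 ∧ v = vec (rotN u (lineCode x)) := by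
  suffices ∃ s, s / 4 < 4060 ∧ v = vec (unitCode s) by
    obtain ⟨s, hs, he⟩ := this
    exact ⟨⟨s / 4, hs⟩, s % 4, Nat.mod_lt _ (by norm_num), he⟩
  obtain ⟨k, hk, hS⟩ := span_inC hv
  set S := wordOf k with hSdef
  obtain ⟨N, hN, h⟩ := exists_shape S hS
  have hterm : ∀ j : Fin 56, (if S.testBit j then (1 : ℤ) else 0) +
      4 * (if (N.testBit j && !S.testBit j) then 1 else 0) ≤ flat v j * flat v j := fun j => by
    obtain ⟨w, hw, hn⟩ := h.odd j
    rw [hw]
    cases hs : S.testBit j
    · cases hb : N.testBit j
      · simp only [Bool.false_and]; norm_num; nlinarith [mul_self_nonneg w]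
      · have : 0 < w * w := mul_self_pos.mpr (by have := hn.mp hb; omega)
        simp; nlinarith
    · simp
      rcases (show 0 ≤ w ∨ w ≤ -1 by omega) with h' | h' <;> nlinarith
  have hle : (pc S : ℤ) + 4 * ∑ j : Fin 56, (if (N.testBit j && !S.testBit j) then (1 : ℤ) else 0) ≤ 16 := by
    rw [pc_eq, Nat.cast_sum, Finset.mul_sum, ← Finset.sum_add_distrib, ← h16, dot]
    refine Finset.sum_le_sum fun j _ => ?_
    have := hterm j
    push_cast
    exact this
  have hnn : (0 : ℤ) ≤ ∑ j : Fin 56, (if (N.testBit j && !S.testBit j) then (1 : ℤ) else 0) :=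
    Finset.sum_nonneg fun j _ => by split <;> omega
  obtain ⟨e, he, hek⟩ := ent_of_light hk (show pc S ≤ 16 by omega)
  have hok := ent_ok he
  cases e with
  | none k' =>
    obtain rfl : k' = k := hek
    simp only [Ent.ok, beq_iff_eq] at hok
    rw [← hSdef] at hok
    rw [hok] at h
    exact shortest_even hv h h16
  | blk k' us keys hh =>
    obtain rfl : k' = k := hek
    simp only [Ent.ok, ← hSdef, Bool.and_eq_true, decide_eq_true_eq, List.all_eq_true, List.mem_range,
      beq_iff_eq] at hok
    obtain ⟨h8, hlen, hh2, hkb, hus, hfree⟩ := hok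
    exfalso
    have hcount : ∑ j : Fin 56, (if (N.testBit j && !S.testBit j) then (1 : ℤ) else 0) ≤ 2 := by
      rw [h8] at hle; omega
    set l := ((List.finRange 56).filter fun j : Fin 56 => !S.testBit j).filter fun j : Fin 56 => N.testBit j with hl
    set s := l.map fun j : Fin 56 => keys.getD j 0 with hs
    have hlen2 : s.length ≤ 2 := by
      rw [hs, List.length_map, hl, List.filter_filter, ← List.toFinset_card_of_nodup
        ((List.nodup_finRange 56).filter _), List.toFinset_filter, List.toFinset_finRange, Finset.card_filter]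
      exact_mod_cast (show ((∑ j : Fin 56, if (N.testBit j && !S.testBit j) then 1 else 0 : ℕ) : ℤ) ≤ 2 by
        rw [Nat.cast_sum]; refine le_of_eq_of_le (Finset.sum_congr rfl fun j _ => ?_) hcount; split <;> rfl)
    refine xfree_spec s.length hh _ s (hfree _ (by omega)) (List.filter_sublist.map _) rfl ?_
    apply Nat.eq_of_testBit_eq
    intro i
    by_cases hi : i < us.length
    · obtain ⟨⟨hPS, hhb⟩, hkey⟩ := hus i hi
      set T := us.getD i 0
      have he4 := shape_eq hv h T
      obtain ⟨N', hN'bit⟩ : ∃ N' : ℕ, ∀ j : Fin 56, N'.testBit j = (N.testBit j && !S.testBit j) :=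
        ⟨Nat.ofBits fun j : Fin 56 => N.testBit j && !S.testBit j,
          fun j => by rw [Nat.testBit_ofBits_lt _ _ j.isLt]⟩
      have hlN : l = (List.finRange 56).filter fun j : Fin 56 => N'.testBit j := by
        rw [hl, List.filter_filter]
        exact List.filter_congr fun j _ => by rw [hN'bit]
      have hNP : pc (N' &&& parOf T) = pc (N &&& parOf T) := by
        rw [pc_eq, pc_eq]
        refine Finset.sum_congr rfl fun j _ => ?_
        have hz : (parOf T &&& S).testBit j = false := by rw [hPS, Nat.zero_testBit]
        rw [Nat.testBit_and] at hz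
        rw [Nat.testBit_and, Nat.testBit_and, hN'bit]
        revert hz
        cases (parOf T).testBit j <;> cases S.testBit j <;> simp
      apply b2_inj
      rw [hs, hlN, xorAll_mask (fun j : Fin 56 => keys.getD j 0) i N' (parOf T) (fun j _ => hkey j j.isLt), hNP,
        ← hhb]
      rw [← ZMod.natCast_mod]
      rcases Nat.mod_two_eq_zero_or_one (pc (N &&& parOf T)) with e | e <;> rw [e]
      · rw [show (usum S T / 2 % 2 == 1) = false from beq_false_of_ne (by omega)]; rfl
      · rw [show (usum S T / 2 % 2 == 1) = true from beq_iff_eq.mpr (by omega)]; rfl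
    · have hall : ∀ x ∈ s, x < 2 ^ us.length := fun x hx => by
        rw [hs, List.mem_map] at hx
        obtain ⟨j, -, rfl⟩ := hx
        rw [List.getD_eq_getElem _ _ (by rw [hlen]; exact j.isLt)]
        exact hkb _ (List.getElem_mem _)
      have : xorAll s < 2 ^ us.length := xorAll_lt hall
      rw [Nat.testBit_eq_false_of_lt (this.trans_le (Nat.pow_le_pow_right two_pos (by omega))),
        Nat.testBit_eq_false_of_lt (hh2.trans_le (Nat.pow_le_pow_right two_pos (by omega)))]
  | bad k' T =>
    obtain rfl : k' = k := hek
    simp only [Ent.ok, ← hSdef, Bool.and_eq_true, beq_iff_eq, Bool.not_eq_true', beq_eq_false_iff_ne] at hok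
    obtain ⟨h16', hPS, hT⟩ := hok
    exfalso
    have hz : ∑ j : Fin 56, (if (N.testBit j && !S.testBit j) then (1 : ℤ) else 0) = 0 := by
      rw [h16'] at hle; omega
    have he4 := shape_eq hv h T
    have : pc (N &&& parOf T) = 0 := by
      rw [pc_eq]
      refine Finset.sum_eq_zero fun j _ => ?_
      have hz' := (Finset.sum_eq_zero_iff_of_nonneg fun j _ => by split <;> omega).mp hz j (Finset.mem_univ j)
      have hp : (parOf T &&& S).testBit j = false := by rw [hPS, Nat.zero_testBit]
      rw [Nat.testBit_and] at hp
      rw [Nat.testBit_and]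
      revert hz' hp
      cases (parOf T).testBit j <;> cases S.testBit j <;> cases N.testBit j <;> simp
    omega
  | good k' F W sols =>
    obtain rfl : k' = k := hek
    simp only [Ent.ok, ← hSdef, Bool.and_eq_true, decide_eq_true_eq, List.all_eq_true, List.mem_range,
      beq_iff_eq] at hok
    obtain ⟨h16', hF, hcover, hW, -, hsols⟩ := hok
    have hz : ∀ j : Fin 56, flat v j * flat v j = if S.testBit j then 1 else 0 := by
      intro j
      have hsum : ∑ j : Fin 56, (flat v j * flat v j - if S.testBit j then (1 : ℤ) else 0) = 0 := by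
        rw [Finset.sum_sub_distrib, ← dot, h16]
        have : ((pc S : ℕ) : ℤ) = 16 := by rw [h16']; rfl
        rw [pc_eq, Nat.cast_sum] at this
        rw [show (∑ j : Fin 56, if S.testBit j then (1 : ℤ) else 0) = 16 from
          (Finset.sum_congr rfl fun j _ => by split <;> rfl).trans this]
        norm_num
      have := (Finset.sum_eq_zero_iff_of_nonneg fun j _ => by
        have := hterm j
        have : (0 : ℤ) ≤ if (N.testBit j && !S.testBit j) then 1 else 0 := by split <;> omega
        linarith).mp hsum j (Finset.mem_univ j)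
      linarith
    -- the pattern on the free positions
    set m := Nat.ofBits fun i : Fin F.length => N.testBit (F.getD i 0) with hm
    obtain ⟨hs4, hsup, hmg, hpat, hWs⟩ := hsols m (Nat.ofBits_lt_two_pow _)
    set c := unitCode (sols.getD m 0)
    refine ⟨sols.getD m 0, hs4, flat_injective (funext fun j => ?_)⟩
    have hagree : ∀ j : Fin 56, S.testBit j = true → F.contains (j : ℕ) = true → N.testBit j = (sgm c).testBit j := by
      intro j _ hjF
      obtain ⟨i, hi, hji⟩ := List.getElem_of_mem (List.contains_iff_mem.mp hjF)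
      have hj' : F.getD i 0 = j := by rw [List.getD_eq_getElem _ _ hi, hji]
      rw [← hj', hpat i hi, hm, Nat.testBit_ofBits_lt _ _ hi]
    have hNS : ∀ j : Fin 56, N.testBit j = true → S.testBit j = true := fun j hj => by
      cases hs : S.testBit j
      · have h0 := hz j
        have h1 := hterm j
        simp [hs] at h0
        simp [hs, hj, h0] at h1
      · rfl
    have hall : ∀ j : Fin 56, S.testBit j = true → N.testBit j = (sgm c).testBit j := by
      intro j hj
      by_cases hjF : F.contains (j : ℕ) = true
      · exact hagree j hj hjF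
      have hjm : (j : ℕ) ∉ F := fun e => hjF (List.contains_iff_mem.mpr e)
      obtain ⟨T, hq⟩ : ∃ T, ((j : ℕ), T) ∈ W := by
        have hcj := hcover j j.isLt
        simpa [hj, hjm] using hcj
      have h1 := shape_eq hv h T
      have h2 := hWs _ hq
      have hpar : (pc (N &&& parOf T) : ZMod 2) = (pc (sgm c &&& S &&& parOf T) : ZMod 2) := by
        rw [ZMod.natCast_eq_natCast_iff']; simp only at h2; omega
      rw [pc_eq, pc_eq, Nat.cast_sum, Nat.cast_sum, ← sub_eq_zero, ← Finset.sum_sub_distrib,
        Finset.sum_eq_single j] at hpar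
      · have hT := hW _ hq j j.isLt
        simp [hj, hjm] at hT
        rw [Nat.testBit_and, Nat.testBit_and, Nat.testBit_and, hT, hj] at hpar
        cases hN1 : N.testBit j <;> cases hN2 : (sgm c).testBit j <;>
          first | rfl | (rw [hN1, hN2] at hpar; revert hpar; decide)
      · intro i _ hij
        rw [Nat.testBit_and, Nat.testBit_and]
        cases hi : S.testBit i
        · have hn : N.testBit i = false := by
            by_contra hc; simp [hNS i (by simpa using hc)] at hi
          simp [hn, hi]
        · by_cases hiF : F.contains (i : ℕ) = true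
          · rw [hagree i hi hiF]; simp [hi]
          · have hT := hW _ hq i i.isLt
            have him : (i : ℕ) ∉ F := fun e => hiF (List.contains_iff_mem.mpr e)
            simp [hi, him] at hT
            simp [hT, Fin.val_ne_of_ne hij]
      · simp
    obtain ⟨w, hw, hn⟩ := h.odd j
    rw [flat_vec, wt, hsup, mg, hmg, if_pos rfl]
    have h2 := hz j
    cases hs : S.testBit j
    · rw [hs] at h2; simpa using mul_self_eq_zero.mp (by simpa using h2)
    · rw [← hall j hs]
      rw [hs] at h2 hw
      simp at h2 hw
      rcases (show flat v j = 1 ∨ flat v j = -1 from mul_self_eq_one_iff.mp h2) with e | e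
      · rw [e] at hw ⊢
        rw [show N.testBit j = false by by_contra hc; have := hn.mp (by simpa using hc); omega]; simp
      · rw [e] at hw ⊢
        rw [show N.testBit j = true from hn.mpr (by omega)]; simp

end Cfsg.Lib.Rudvalis
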