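import Cfsg.Agent.Rudvalis.Aut.MapCheckA
import Cfsg.Agent.Rudvalis.Aut.MapCheckB
import Cfsg.Agent.Rudvalis.Aut.Shortest

/-!
# The lattice automorphisms act on the 4060 lines

Their image contains the permutation model.
-/

set_option autoImplicit false

namespace Cfsg.Lib.Rudvalis

open Cfsg.Spor

/-- The base line is in the lattice. -/
theorem base_ok : coordsOK (vec (lineCode 0)) baseCoords = true := by decide +kernel

theorem shortest_line {v : RuVec} (hv : v ∈ span) (h16 : dot v v = 16) :
    ∃ (x : Fin 4060) (u : ℕ), lineVec x ∈ span ∧ v = gI ^ u • lineVec x := by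
  obtain ⟨x, u, -, e⟩ := shortest hv h16
  rw [vec_rotN] at e
  exact ⟨x, u, pow_mem_iff.mp (show gI ^ u • lineVec x ∈ span from (show v = gI ^ u • lineVec x from e) ▸ hv), e⟩

theorem line_shape : ∀ x, x < 4060 →
    (dotC (lineCode x) (lineCode x) == 16) = true := by
  have h : RuModel.chk (fun x => dotC (lineCode x) (lineCode x) == 16) 0 4060 = true := by decide +kernel
  exact fun x hx => RuModel.chk_apply h hx

theorem dot_lineVec (x : Fin 4060) : dot (lineVec x) (lineVec x) = 16 := by
  rw [lineVec, dot_vec]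
  exact beq_iff_eq.mp (line_shape x x.isLt)

theorem GoodMap.line_image {U : List ℕ} {M : ℕ} (h : GoodMap U M) {g : Equiv.Perm (Fin 4060)}
    (hg : ∀ x : Fin 4060, RuModel.vv (g x) = RuModel.vap (RuModel.vv x) M) {x : Fin 4060}
    (hx : lineVec x ∈ span) :
    lineVec (g x) ∈ span ∧ ∃ u : ℕ, mapU U (lineVec x) = gI ^ u • lineVec (g x) := by
  obtain ⟨y, u, hy, e⟩ := shortest_line (h.facts hx).mem (by rw [h.dot_mapU hx, dot_lineVec])
  have h1 : RuModel.vv y = RuModel.vap (RuModel.vv x) M := by
    rw [← red_lineVec, ← red_pow hy u, ← e, (h.facts hx).red_eq, red_lineVec]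
  obtain rfl : y = g x := RuModel.vecs.inj y (g x) (by rw [h1, hg])
  exact ⟨hy, u, e⟩

theorem genA_fits (x : Fin 4060) : RuModel.vv (RuModel.genA x) = RuModel.vap (RuModel.vv x) (RuModel.ru0.mat 0) :=
  ((RuModel.perm0_fact x).2.2.2.2).symm

theorem genB_fits (x : Fin 4060) : RuModel.vv (RuModel.genB x) = RuModel.vap (RuModel.vv x) (RuModel.ru0.mat 1) :=
  ((RuModel.perm1_fact x).2.2.2.2).symm

theorem lineVec_mem (x : Fin 4060) : lineVec x ∈ span := by
  let S : Subgroup (Equiv.Perm (Fin 4060)) :=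
    { carrier := {g | ∀ x : Fin 4060, lineVec x ∈ span ↔ lineVec (g x) ∈ span}
      one_mem' := fun _ => Iff.rfl
      mul_mem' := fun {a b} ha hb x => (hb x).trans (ha (b x))
      inv_mem' := fun {a} ha x => by rw [ha (a⁻¹ x), Equiv.Perm.coe_inv, Equiv.apply_symm_apply] }
  have hgen : ∀ g : Equiv.Perm (Fin 4060), (∀ x, lineVec x ∈ span → lineVec (g x) ∈ span) → g ∈ S := by
    intro g hg x
    refine ⟨hg x, fun h => ?_⟩
    have hpow : ∀ n : ℕ, lineVec ((g ^ n) (g x)) ∈ span := by
      intro n
      induction n with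
      | zero => simpa using h
      | succ n ih => rw [pow_succ', Equiv.Perm.mul_apply]; exact hg _ ih
    have hk := hpow (orderOf g - 1)
    rwa [← Equiv.Perm.mul_apply, ← pow_succ, Nat.sub_add_cancel (orderOf_pos g), pow_orderOf_eq_one,
      Equiv.Perm.one_apply] at hk
  have hle : RuModel.ruGroup ≤ S := by
    refine (Subgroup.closure_le _).mpr ?_
    intro g hg
    have : g = RuModel.genA ∨ g = RuModel.genB := by simpa [RuModel.gs0] using hg
    rcases this with rfl | rfl
    · exact hgen _ fun x hx => (goodA.line_image genA_fits hx).1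
    · exact hgen _ fun x hx => (goodB.line_image genB_fits hx).1
  obtain ⟨g, hg⟩ := MulAction.exists_smul_eq RuModel.ruGroup (0 : Fin 4060) x
  rw [← hg]
  exact (hle g.2 0).mp (mem_span_of_coords base_ok)

/-- A line as an element of the lattice. -/
def latLine (x : Fin 4060) : ruLattice := ⟨lineVec x, span_eq.le (lineVec_mem x)⟩

theorem mem_span (v : ruLattice) : (v : RuVec) ∈ span := span_eq.ge v.2

/-- A map as a function on the lattice. -/
def latMap {U : List ℕ} {M : ℕ} (h : GoodMap U M) (v : ruLattice) : ruLattice :=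
  ⟨mapU U v, span_eq.le (h.facts (mem_span v)).mem⟩

theorem latMap_add {U : List ℕ} {M : ℕ} (h : GoodMap U M) (v w : ruLattice) :
    latMap h (v + w) = latMap h v + latMap h w :=
  Subtype.ext (h.mapU_add (mem_span v) (mem_span w))

theorem latMap_gI {U : List ℕ} {M : ℕ} (h : GoodMap U M) (v : ruLattice) :
    latMap h (ruI v) = ruI (latMap h v) :=
  Subtype.ext (h.mapU_gI (mem_span v))

theorem dot_self_eq_zero {v : RuVec} (h : dot v v = 0) : v = 0 :=
  flat_injective (funext fun j => by
    rw [flat_zero]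
    exact mul_self_eq_zero.mp ((Finset.sum_eq_zero_iff_of_nonneg fun k _ => mul_self_nonneg _).mp h j
      (Finset.mem_univ j)))

theorem latMap_bijective {U : List ℕ} {M : ℕ} (h : GoodMap U M) : Function.Bijective (latMap h) := by
  let F : ruLattice →+ ruLattice := AddMonoidHom.mk' (latMap h) (latMap_add h)
  have hinj : Function.Injective F := by
    refine (injective_iff_map_eq_zero F).mpr fun v hv => Subtype.ext (dot_self_eq_zero ?_)
    rw [← h.dot_mapU (mem_span v), show mapU U (v : RuVec) = ((F v : ruLattice) : RuVec) from rfl, hv]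
    simp [dot, flat_zero]
  refine ⟨hinj, fun y => ?_⟩
  set S : Set ruLattice := {v | dot (v : RuVec) v = 16} with hS
  have hfin : S.Finite := by
    refine Set.Finite.subset (Set.finite_range fun p : Fin 4060 × Fin 4 =>
      (⟨gI ^ (p.2 : ℕ) • lineVec p.1, span_eq.le (gI_pow_mem (lineVec_mem p.1) _)⟩ : ruLattice)) fun v hv => ?_
    obtain ⟨x, u, -, e⟩ := shortest_line (mem_span v) hv
    refine ⟨(x, ⟨u % 4, Nat.mod_lt _ (by norm_num)⟩), Subtype.ext ?_⟩
    show gI ^ (u % 4) • lineVec x = _
    rw [e, ← pow_eq_pow_mod u (show gI ^ 4 = 1 from rfl)]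
  have hsurj : Set.SurjOn F S S := hfin.injOn_iff_bijOn_of_mapsTo
    (fun v hv => show dot (mapU U v) (mapU U v) = 16 from (h.dot_mapU (mem_span v)).trans hv) |>.mp hinj.injOn |>.surjOn
  have hle : span ≤ F.range.map ruLattice.subtype := span_le_shortest.trans ((AddSubgroup.closure_le _).mpr (by
    rintro v ⟨hv, h16⟩
    obtain ⟨w, -, hw⟩ := hsurj (show (⟨v, span_eq.le hv⟩ : ruLattice) ∈ S from h16)
    exact ⟨F w, ⟨w, rfl⟩, congrArg Subtype.val hw⟩))
  obtain ⟨z, ⟨w, rfl⟩, hz⟩ := hle (mem_span y)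
  exact ⟨w, Subtype.ext hz⟩

/-- A map as an automorphism of the lattice. -/
noncomputable def latAut {U : List ℕ} {M : ℕ} (h : GoodMap U M) : fourRu :=
  ⟨Equiv.ofBijective (latMap h) (latMap_bijective h), latMap_add h, latMap_gI h, fun v => by
    show ruNorm (mapU U v) = ruNorm (v : RuVec)
    rw [ruNorm_eq, ruNorm_eq]
    exact h.dot_mapU (mem_span v)⟩

/-- An automorphism as an additive map. -/
def autHom (g : fourRu) : ruLattice →+ ruLattice := AddMonoidHom.mk' g.1 g.2.1

theorem aut_dot_self (g : fourRu) (v : ruLattice) :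
    dot ((g.1 v : ruLattice) : RuVec) (g.1 v : ruLattice) = dot (v : RuVec) v := by
  have h := g.2.2.2 v
  rwa [ruNorm_eq, ruNorm_eq] at h

theorem aut_dot (g : fourRu) (v w : ruLattice) :
    dot ((g.1 v : ruLattice) : RuVec) (g.1 w : ruLattice) = dot (v : RuVec) w := by
  have h := aut_dot_self g (v + w)
  rw [g.2.1] at h
  have e : ∀ a b : RuVec, dot (a + b) (a + b) = dot a a + 2 * dot a b + dot b b := fun a b => by
    rw [dot_add, dot_comm (a + b) a, dot_comm (a + b) b, dot_add, dot_add, dot_comm b a]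
    ring
  rw [AddSubgroup.coe_add, AddSubgroup.coe_add, e, e, aut_dot_self g v, aut_dot_self g w] at h
  linarith

theorem aut_herm (g : fourRu) (v w : ruLattice) :
    herm ((g.1 v : ruLattice) : RuVec) (g.1 w : ruLattice) = herm (v : RuVec) w := by
  rw [herm_eq, herm_eq, aut_dot]
  have h : gI • ((g.1 v : ruLattice) : RuVec) = ((g.1 (ruI v) : ruLattice) : RuVec) := by rw [g.2.2.1]; rfl
  rw [h, aut_dot]
  rfl

theorem exists_move (g : fourRu) (x : Fin 4060) :
    ∃ (y : Fin 4060) (u : ℕ), ((g.1 (latLine x) : ruLattice) : RuVec) = gI ^ u • lineVec y := by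
  obtain ⟨y, u, -, e⟩ := shortest_line (mem_span _)
    (show dot ((g.1 (latLine x) : ruLattice) : RuVec) _ = 16 from (aut_dot_self g _).trans (dot_lineVec x))
  exact ⟨y, u, e⟩

/-- The line to which an automorphism moves a line. -/
noncomputable def move (g : fourRu) (x : Fin 4060) : Fin 4060 := (exists_move g x).choose

theorem move_spec (g : fourRu) (x : Fin 4060) :
    ∃ u : ℕ, ((g.1 (latLine x) : ruLattice) : RuVec) = gI ^ u • lineVec (move g x) := (exists_move g x).choose_spec

theorem move_eq {g : fourRu} {x y : Fin 4060} {u : ℕ}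
    (h : ((g.1 (latLine x) : ruLattice) : RuVec) = gI ^ u • lineVec y) : move g x = y := by
  obtain ⟨w, hw⟩ := move_spec g x
  exact line_unique (lineVec_mem _) (lineVec_mem _) (hw ▸ h)

theorem aut_pow (g : fourRu) : ∀ (u : ℕ) (v w : ruLattice), (w : RuVec) = gI ^ u • (v : RuVec) →
    ((g.1 w : ruLattice) : RuVec) = gI ^ u • ((g.1 v : ruLattice) : RuVec)
  | 0, v, w, e => by
    rw [pow_zero, one_smul] at e ⊢
    rw [Subtype.ext e]
  | u + 1, v, w, e => by
    have hm : gI ^ u • (v : RuVec) ∈ ruLattice := span_eq.le (gI_pow_mem (mem_span v) u)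
    have hw : w = ruI ⟨_, hm⟩ := Subtype.ext (by rw [e, pow_succ', mul_smul]; rfl)
    rw [hw, g.2.2.1]
    show gI • ((g.1 ⟨_, hm⟩ : ruLattice) : RuVec) = _
    rw [aut_pow g u v ⟨_, hm⟩ rfl, smul_smul, pow_succ']

theorem move_mul (g k : fourRu) (x : Fin 4060) : move (g * k) x = move g (move k x) := by
  obtain ⟨u, hu⟩ := move_spec k x
  obtain ⟨w, hw⟩ := move_spec g (move k x)
  refine move_eq (u := u + w) ?_
  show ((g.1 (k.1 (latLine x)) : ruLattice) : RuVec) = _
  rw [aut_pow g u (latLine (move k x)) _ hu, hw, smul_smul, pow_add]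

theorem move_one (x : Fin 4060) : move 1 x = x := move_eq (u := 0) (by simp [latLine])

/-- The action on the lines. -/
noncomputable def linePerm : fourRu →* Equiv.Perm (Fin 4060) where
  toFun g :=
    { toFun := move g
      invFun := move g⁻¹
      left_inv := fun x => by rw [← move_mul, inv_mul_cancel, move_one]
      right_inv := fun x => by rw [← move_mul, mul_inv_cancel, move_one] }
  map_one' := Equiv.ext move_one
  map_mul' g k := Equiv.ext (move_mul g k)

theorem linePerm_apply (g : fourRu) (x : Fin 4060) : linePerm g x = move g x := rfl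

theorem linePerm_latAut {U : List ℕ} {M : ℕ} (h : GoodMap U M) {p : Equiv.Perm (Fin 4060)}
    (hp : ∀ x : Fin 4060, RuModel.vv (p x) = RuModel.vap (RuModel.vv x) M) : linePerm (latAut h) = p :=
  Equiv.ext fun x => by
    obtain ⟨-, u, e⟩ := h.line_image hp (lineVec_mem x)
    exact move_eq e

theorem ruGroup_le_range : RuModel.ruGroup ≤ linePerm.range := by
  refine (Subgroup.closure_le _).mpr ?_
  intro g hg
  have : g = RuModel.genA ∨ g = RuModel.genB := by simpa [RuModel.gs0] using hg
  rcases this with rfl | rfl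
  · exact ⟨latAut goodA, linePerm_latAut goodA genA_fits⟩
  · exact ⟨latAut goodB, linePerm_latAut goodB genB_fits⟩

end Cfsg.Lib.Rudvalis
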