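import Mathlib

/-!
# A chain of lines cutting the automorphism group down

Each step lists the possible images of a line, and invariants that single them out.
-/

set_option autoImplicit false

namespace Cfsg.Lib.Rudvalis

/-- An invariant: two fixed lines, their product, and its value at the line. -/
structure Item where
  p : ℕ
  q : ℕ
  cre : ℤ
  cim : ℤ
  vre : ℤ
  vim : ℤ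

/-- A step: the possible images, the first being the line, and the invariants. -/
structure Step where
  allow : List ℕ
  items : List Item

/-- Step 0. -/
def step0 : Step := ⟨[2472, 2649], [
    ⟨0, 2, 4, 0, (-64), 0⟩,
    ⟨1, 2, 4, 0, (-64), 0⟩]⟩

/-- Step 1. -/
def step1 : Step := ⟨[90], [
    ⟨2, 2, 16, 0, 0, 0⟩,
    ⟨0, 2472, 0, 4, (-64), 0⟩,
    ⟨1, 2472, 0, 4, (-64), 0⟩]⟩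

/-- Step 2. -/
def step2 : Step := ⟨[394, 2190], [
    ⟨0, 2, 4, 0, (-64), 0⟩,
    ⟨0, 2472, 0, 4, (-64), 0⟩]⟩

/-- Step 3. -/
def step3 : Step := ⟨[1545], [
    ⟨0, 90, 0, 4, (-64), 0⟩,
    ⟨1, 394, 0, (-4), (-64), 0⟩,
    ⟨2472, 2472, 16, 0, 256, 0⟩]⟩

/-- Step 4. -/
def step4 : Step := ⟨[3577], [
    ⟨0, 0, 16, 0, 0, 0⟩,
    ⟨2, 394, 0, (-4), (-64), 0⟩,
    ⟨2, 1545, (-4), 0, (-64), 0⟩,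
    ⟨2472, 90, (-4), 0, 64, 0⟩]⟩

/-- Step 5. -/
def step5 : Step := ⟨[9, 65], [
    ⟨2472, 2472, 16, 0, 0, 0⟩,
    ⟨0, 394, 0, 4, 0, 64⟩,
    ⟨90, 3577, 0, (-4), 64, 0⟩,
    ⟨1545, 1545, 16, 0, 256, 0⟩]⟩

/-- Step 6. -/
def step6 : Step := ⟨[1984], [
    ⟨394, 394, 16, 0, 0, 0⟩,
    ⟨90, 9, 0, (-4), (-64), 0⟩,
    ⟨1, 2, 4, 0, 0, 64⟩]⟩

/-- Step 7. -/
def step7 : Step := ⟨[1432], [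
    ⟨394, 394, 16, 0, 0, 0⟩,
    ⟨90, 9, 0, (-4), (-64), 0⟩,
    ⟨1, 2472, 0, 4, 64, 0⟩,
    ⟨0, 2, 4, 0, 0, (-64)⟩]⟩

/-- Step 8. -/
def step8 : Step := ⟨[2068], [
    ⟨2, 9, 4, 0, (-64), 0⟩,
    ⟨0, 0, 16, 0, 256, 0⟩,
    ⟨394, 3577, 0, (-4), 0, (-64)⟩]⟩

/-- Step 9. -/
def step9 : Step := ⟨[1835], [
    ⟨394, 394, 16, 0, 0, 0⟩,
    ⟨0, 2068, 4, 0, (-64), 0⟩,
    ⟨0, 2472, 0, 4, 0, (-64)⟩]⟩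

/-- Step 10. -/
def step10 : Step := ⟨[1258], [
    ⟨394, 394, 16, 0, 0, 0⟩,
    ⟨0, 2068, 4, 0, (-64), 0⟩,
    ⟨1, 2472, 0, 4, 0, 64⟩]⟩

/-- Step 11. -/
def step11 : Step := ⟨[3, 2575], [
    ⟨3577, 3577, 16, 0, 0, 0⟩,
    ⟨2472, 2472, 16, 0, 0, 0⟩,
    ⟨2068, 2068, 16, 0, 0, 0⟩,
    ⟨1, 1432, 4, 0, 0, 64⟩,
    ⟨0, 1432, 4, 0, 0, 64⟩]⟩

/-- Step 12. -/
def step12 : Step := ⟨[35], [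
    ⟨2, 2, 16, 0, 0, 0⟩,
    ⟨1258, 1258, 16, 0, 0, 0⟩,
    ⟨1432, 1432, 16, 0, 0, 0⟩,
    ⟨3, 3, 16, 0, 0, 0⟩,
    ⟨2472, 2068, 0, (-4), 0, 64⟩]⟩

/-- Step 13. -/
def step13 : Step := ⟨[52], [
    ⟨394, 394, 16, 0, 0, 0⟩,
    ⟨0, 0, 16, 0, 0, 0⟩,
    ⟨2, 9, 4, 0, (-64), 0⟩,
    ⟨90, 90, 16, 0, 256, 0⟩,
    ⟨2, 3, 0, 4, (-64), 0⟩]⟩

/-- Step 14. -/
def step14 : Step := ⟨[3552], [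
    ⟨1, 1, 16, 0, 0, 0⟩,
    ⟨1984, 1984, 16, 0, 0, 0⟩,
    ⟨2068, 2068, 16, 0, 0, 0⟩,
    ⟨3, 3, 16, 0, 0, 0⟩,
    ⟨90, 3577, 0, (-4), 0, (-64)⟩,
    ⟨90, 394, 4, 0, 0, (-64)⟩]⟩

/-- Step 15. -/
def step15 : Step := ⟨[3466], [
    ⟨2068, 2068, 16, 0, 0, 0⟩,
    ⟨1432, 1432, 16, 0, 0, 0⟩,
    ⟨2, 9, 4, 0, (-64), 0⟩,
    ⟨3, 3, 16, 0, 256, 0⟩,
    ⟨394, 394, 16, 0, 256, 0⟩]⟩

/-- Step 16. -/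
def step16 : Step := ⟨[1893], [
    ⟨1432, 1432, 16, 0, 0, 0⟩,
    ⟨1984, 1984, 16, 0, 0, 0⟩,
    ⟨2068, 2068, 16, 0, 0, 0⟩,
    ⟨2472, 2472, 16, 0, 0, 0⟩,
    ⟨1, 3, 0, 4, (-64), 0⟩]⟩

/-- Step 17. -/
def step17 : Step := ⟨[1775], [
    ⟨1432, 1432, 16, 0, 0, 0⟩,
    ⟨1984, 1984, 16, 0, 0, 0⟩,
    ⟨2068, 2068, 16, 0, 0, 0⟩,
    ⟨2472, 2472, 16, 0, 0, 0⟩,
    ⟨0, 3, 0, 4, (-64), 0⟩]⟩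

/-- Step 18. -/
def step18 : Step := ⟨[1400], [
    ⟨1432, 1432, 16, 0, 0, 0⟩,
    ⟨1258, 1258, 16, 0, 0, 0⟩,
    ⟨2, 2, 16, 0, 0, 0⟩,
    ⟨3, 3, 16, 0, 0, 0⟩,
    ⟨2472, 90, (-4), 0, (-64), 0⟩]⟩

/-- Step 19. -/
def step19 : Step := ⟨[1963], [
    ⟨2, 3, 0, 4, (-64), 0⟩,
    ⟨9, 9, 16, 0, 256, 0⟩,
    ⟨0, 90, 0, 4, 0, (-64)⟩]⟩

/-- Step 20. -/
def step20 : Step := ⟨[1325], [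
    ⟨1432, 1432, 16, 0, 0, 0⟩,
    ⟨1984, 1984, 16, 0, 0, 0⟩,
    ⟨90, 90, 16, 0, 0, 0⟩,
    ⟨2472, 2472, 16, 0, 0, 0⟩,
    ⟨2, 2068, 0, 4, 0, 64⟩,
    ⟨9, 3, 0, 4, 64, 0⟩]⟩

/-- Step 21. -/
def step21 : Step := ⟨[1874], [
    ⟨2, 2, 16, 0, 0, 0⟩,
    ⟨2472, 2472, 16, 0, 0, 0⟩,
    ⟨3, 3, 16, 0, 0, 0⟩,
    ⟨1432, 1432, 16, 0, 0, 0⟩,
    ⟨394, 3577, 0, (-4), 0, 64⟩,
    ⟨1, 394, 0, (-4), 64, 0⟩]⟩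

/-- Step 22. -/
def step22 : Step := ⟨[3035], [
    ⟨1432, 1432, 16, 0, 0, 0⟩,
    ⟨90, 90, 16, 0, 0, 0⟩,
    ⟨3, 3, 16, 0, 0, 0⟩,
    ⟨2472, 2472, 16, 0, 0, 0⟩,
    ⟨0, 9, 4, 0, 64, 0⟩,
    ⟨2, 2068, 0, 4, 0, 64⟩]⟩

/-- Step 23. -/
def step23 : Step := ⟨[317], [
    ⟨1432, 1432, 16, 0, 0, 0⟩,
    ⟨1258, 1258, 16, 0, 0, 0⟩,
    ⟨3, 3, 16, 0, 0, 0⟩,
    ⟨0, 2, 4, 0, 0, (-64)⟩,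
    ⟨2472, 3577, 0, 4, 64, 0⟩]⟩

/-- Step 24. -/
def step24 : Step := ⟨[341], [
    ⟨1432, 1432, 16, 0, 0, 0⟩,
    ⟨2, 2, 16, 0, 0, 0⟩,
    ⟨0, 3, 0, 4, 0, (-64)⟩,
    ⟨394, 3577, 0, (-4), 0, 64⟩,
    ⟨1, 1, 16, 0, 256, 0⟩]⟩

/-- Step 25. -/
def step25 : Step := ⟨[2917], [
    ⟨1432, 1432, 16, 0, 0, 0⟩,
    ⟨1258, 1258, 16, 0, 0, 0⟩,
    ⟨2, 2, 16, 0, 0, 0⟩,
    ⟨2472, 90, (-4), 0, (-64), 0⟩,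
    ⟨3, 3, 16, 0, 256, 0⟩]⟩

/-- Step 26. -/
def step26 : Step := ⟨[757], [
    ⟨394, 394, 16, 0, 0, 0⟩,
    ⟨3, 3, 16, 0, 0, 0⟩,
    ⟨2472, 2472, 16, 0, 0, 0⟩,
    ⟨2, 9, 4, 0, (-64), 0⟩,
    ⟨90, 2068, (-4), 0, 64, 0⟩]⟩

/-- Step 27. -/
def step27 : Step := ⟨[2218], [
    ⟨2068, 2068, 16, 0, 0, 0⟩,
    ⟨3, 3, 16, 0, 0, 0⟩,
    ⟨1, 1, 16, 0, 0, 0⟩,
    ⟨2, 9, 4, 0, (-64), 0⟩,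
    ⟨2472, 3577, 0, 4, 0, (-64)⟩]⟩

/-- Step 28. -/
def step28 : Step := ⟨[787], [
    ⟨2, 2, 16, 0, 0, 0⟩,
    ⟨1258, 1258, 16, 0, 0, 0⟩,
    ⟨1432, 1432, 16, 0, 0, 0⟩,
    ⟨2472, 2068, 0, (-4), 0, 64⟩,
    ⟨3, 3, 16, 0, 256, 0⟩]⟩

/-- Step 29. -/
def step29 : Step := ⟨[2336], [
    ⟨1, 1, 16, 0, 0, 0⟩,
    ⟨1984, 1984, 16, 0, 0, 0⟩,
    ⟨2472, 2472, 16, 0, 0, 0⟩,
    ⟨9, 9, 16, 0, 0, 0⟩,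
    ⟨90, 3577, 0, (-4), 0, (-64)⟩,
    ⟨3, 3, 16, 0, 256, 0⟩]⟩

/-- Step 30. -/
def step30 : Step := ⟨[3568], [
    ⟨2472, 2472, 16, 0, 0, 0⟩,
    ⟨2, 9, 4, 0, (-64), 0⟩,
    ⟨394, 3577, 0, (-4), 0, (-64)⟩,
    ⟨2, 3, 0, 4, 0, (-64)⟩]⟩

/-- Step 31. -/
def step31 : Step := ⟨[3406], [
    ⟨2472, 2472, 16, 0, 0, 0⟩,
    ⟨2, 9, 4, 0, (-64), 0⟩,
    ⟨394, 3577, 0, (-4), 0, (-64)⟩,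
    ⟨2, 3, 0, 4, 0, 64⟩]⟩

/-- Step 32. -/
def step32 : Step := ⟨[7], [
    ⟨394, 394, 16, 0, 0, 0⟩,
    ⟨3, 3, 16, 0, 0, 0⟩,
    ⟨1, 90, 0, 4, (-64), 0⟩,
    ⟨2068, 2068, 16, 0, 256, 0⟩,
    ⟨2472, 1432, 0, (-4), 0, 64⟩]⟩

/-- Step 33. -/
def step33 : Step := ⟨[1287], [
    ⟨1835, 1835, 16, 0, 0, 0⟩,
    ⟨1432, 1432, 16, 0, 0, 0⟩,
    ⟨1984, 1984, 16, 0, 0, 0⟩,
    ⟨1775, 1775, 16, 0, 0, 0⟩,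
    ⟨7, 7, 16, 0, 0, 0⟩,
    ⟨2, 2, 16, 0, 0, 0⟩,
    ⟨0, 2472, 0, 4, 0, (-64)⟩]⟩

/-- Step 34. -/
def step34 : Step := ⟨[1490], [
    ⟨1835, 1835, 16, 0, 0, 0⟩,
    ⟨1432, 1432, 16, 0, 0, 0⟩,
    ⟨2, 2, 16, 0, 0, 0⟩,
    ⟨1775, 1775, 16, 0, 0, 0⟩,
    ⟨0, 2472, 0, 4, 0, (-64)⟩,
    ⟨1, 7, 4, 0, 0, 64⟩]⟩

/-- Step 35. -/
def step35 : Step := ⟨[3631], [
    ⟨7, 7, 16, 0, 0, 0⟩,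
    ⟨9, 9, 16, 0, 0, 0⟩,
    ⟨3577, 2068, (-4), 0, (-64), 0⟩,
    ⟨2472, 90, (-4), 0, 64, 0⟩]⟩

/-- Step 36. -/
def step36 : Step := ⟨[3461], [
    ⟨2, 2, 16, 0, 0, 0⟩,
    ⟨9, 9, 16, 0, 0, 0⟩,
    ⟨3577, 2068, (-4), 0, (-64), 0⟩,
    ⟨90, 7, 0, 4, 0, (-64)⟩]⟩

/-- All steps. -/
def steps : List Step := [step0, step1, step2, step3, step4, step5, step6, step7, step8, step9, step10, step11, step12, step13, step14, step15, step16, step17, step18, step19, step20, step21, step22, step23, step24, step25, step26, step27, step28, step29, step30, step31, step32, step33, step34, step35, step36]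

/-- The lines of the unit vectors. -/
def frameLines : List ℕ := [1287, 1984, 1835, 1490, 35, 52, 3552, 3466, 1432, 1258, 1893, 1775, 1400, 1963, 1325, 1874, 3035, 317, 341, 2917, 757, 2218, 787, 2336, 3568, 3631, 3406, 3461]

/-- Links between coordinates: a new one, a line, an old one. -/
def frameLinks : List (ℕ × ℕ × ℕ) := [(1, 0, 0), (2, 0, 0), (3, 0, 0), (8, 0, 0), (9, 0, 0), (10, 0, 0), (11, 0, 0), (12, 0, 0), (13, 0, 0), (14, 0, 0), (15, 0, 0), (16, 0, 0), (17, 0, 0), (18, 0, 0), (19, 0, 0), (5, 2, 1), (7, 2, 1), (20, 2, 1), (21, 2, 1), (24, 2, 1), (26, 2, 1), (4, 2472, 0), (22, 2472, 0), (25, 2472, 0), (27, 2472, 0), (6, 90, 0), (23, 90, 0)]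

end Cfsg.Lib.Rudvalis
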