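import Cfsg.Agent.Rudvalis.Aut.Complete
import Cfsg.Agent.Rudvalis.Aut.ChainData
import Cfsg.Agent.RuModel.Groups

/-!
# Invariants of triples of lines

The cyclic product of the three Hermitian products does not see the unit multiples.
-/

set_option autoImplicit false

namespace Cfsg.Lib.Rudvalis

/-- The product of two lines. -/
def hL (x y : ℕ) : GaussianInt := hC (lineCode x) (lineCode y)

/-- The cyclic product. -/
def tri (p q y : ℕ) : GaussianInt := hL p y * star (hL q y) * hL q p

/-- Whether a line passes an invariant, with the product of the fixed lines given. -/
def Item.test (it : Item) (y : ℕ) : Bool :=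
  let a := lineCode it.p
  let b := lineCode it.q
  let c := lineCode y
  let u := dotC a c
  let v := dotC (rotC a) c
  if Nat.beq it.p it.q then
    decide ((u * u + v * v) * it.cre = it.vre)
  else
    let w := dotC b c
    let z := -dotC (rotC b) c
    decide ((u * w - v * z) * it.cre - (u * z + v * w) * it.cim = it.vre) &&
      decide ((u * z + v * w) * it.cre + (u * w - v * z) * it.cim = it.vim)

/-- The given product is right. -/
def Item.wellOK (it : Item) : Bool :=
  decide (hL it.q it.p = ⟨it.cre, it.cim⟩) && (!Nat.beq it.p it.q || decide (it.cim = 0) && decide (it.vim = 0))

/-- The head data of a step: its lines are lines and the first passes all invariants. -/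
def Step.headOK (s : Step) (known : List ℕ) : Bool :=
  !s.allow.isEmpty && (s.allow.all (fun a => decide (a < 4060)) &&
    s.items.all fun it => known.contains it.p && (known.contains it.q && (it.wellOK && it.test (s.allow.getD 0 0))))

/-- Only the allowed lines pass. -/
def Step.scanOK (s : Step) (y : ℕ) : Bool :=
  if s.items.all fun it => it.test y then s.allow.contains y else true

/-- The first three fixed lines. -/
def knownStart : List ℕ := [0, 1, 2]

/-- All head data. -/
def headsOK : List Step → List ℕ → Bool
  | [], _ => true
  | s :: r, known => s.headOK known && headsOK r (known ++ [s.allow.getD 0 0])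

end Cfsg.Lib.Rudvalis
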