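import Cfsg.Agent.Rudvalis.Aut.ChainDefs

/-!
# Scans of the 4060 lines for the chain, part 0

Each step is scanned in pieces.
-/

set_option autoImplicit false

namespace Cfsg.Lib.Rudvalis

theorem step0_lo : RuModel.chk step0.scanOK 0 2030 = true := by decide +kernel

theorem step0_hi : RuModel.chk step0.scanOK 2030 2030 = true := by decide +kernel

theorem step0_ok : RuModel.chk step0.scanOK 0 4060 = true :=
  RuModel.chk_join step0_lo step0_hi rfl rfl

theorem step4_lo : RuModel.chk step4.scanOK 0 2030 = true := by decide +kernel

theorem step4_hi : RuModel.chk step4.scanOK 2030 2030 = true := by decide +kernel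

theorem step4_ok : RuModel.chk step4.scanOK 0 4060 = true :=
  RuModel.chk_join step4_lo step4_hi rfl rfl

theorem step8_lo : RuModel.chk step8.scanOK 0 2030 = true := by decide +kernel

theorem step8_hi : RuModel.chk step8.scanOK 2030 2030 = true := by decide +kernel

theorem step8_ok : RuModel.chk step8.scanOK 0 4060 = true :=
  RuModel.chk_join step8_lo step8_hi rfl rfl

theorem step12_lo : RuModel.chk step12.scanOK 0 2030 = true := by decide +kernel

theorem step12_hi : RuModel.chk step12.scanOK 2030 2030 = true := by decide +kernel

theorem step12_ok : RuModel.chk step12.scanOK 0 4060 = true :=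
  RuModel.chk_join step12_lo step12_hi rfl rfl

theorem step16_lo : RuModel.chk step16.scanOK 0 2030 = true := by decide +kernel

theorem step16_hi : RuModel.chk step16.scanOK 2030 2030 = true := by decide +kernel

theorem step16_ok : RuModel.chk step16.scanOK 0 4060 = true :=
  RuModel.chk_join step16_lo step16_hi rfl rfl

theorem step20_lo : RuModel.chk step20.scanOK 0 2030 = true := by decide +kernel

theorem step20_hi : RuModel.chk step20.scanOK 2030 2030 = true := by decide +kernel

theorem step20_ok : RuModel.chk step20.scanOK 0 4060 = true :=
  RuModel.chk_join step20_lo step20_hi rfl rfl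

theorem step24_lo : RuModel.chk step24.scanOK 0 2030 = true := by decide +kernel

theorem step24_hi : RuModel.chk step24.scanOK 2030 2030 = true := by decide +kernel

theorem step24_ok : RuModel.chk step24.scanOK 0 4060 = true :=
  RuModel.chk_join step24_lo step24_hi rfl rfl

theorem step28_lo : RuModel.chk step28.scanOK 0 2030 = true := by decide +kernel

theorem step28_hi : RuModel.chk step28.scanOK 2030 2030 = true := by decide +kernel

theorem step28_ok : RuModel.chk step28.scanOK 0 4060 = true :=
  RuModel.chk_join step28_lo step28_hi rfl rfl

theorem step32_lo : RuModel.chk step32.scanOK 0 2030 = true := by decide +kernel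

theorem step32_hi : RuModel.chk step32.scanOK 2030 2030 = true := by decide +kernel

theorem step32_ok : RuModel.chk step32.scanOK 0 4060 = true :=
  RuModel.chk_join step32_lo step32_hi rfl rfl

theorem step36_lo : RuModel.chk step36.scanOK 0 2030 = true := by decide +kernel

theorem step36_hi : RuModel.chk step36.scanOK 2030 2030 = true := by decide +kernel

theorem step36_ok : RuModel.chk step36.scanOK 0 4060 = true :=
  RuModel.chk_join step36_lo step36_hi rfl rfl

end Cfsg.Lib.Rudvalis
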