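import Cfsg.Agent.Rudvalis.Aut.ChainDefs

/-!
# Scans of the 4060 lines for the chain, part 1

Each step is scanned in pieces.
-/

set_option autoImplicit false

namespace Cfsg.Lib.Rudvalis

theorem step1_lo : RuModel.chk step1.scanOK 0 2030 = true := by decide +kernel

theorem step1_hi : RuModel.chk step1.scanOK 2030 2030 = true := by decide +kernel

theorem step1_ok : RuModel.chk step1.scanOK 0 4060 = true :=
  RuModel.chk_join step1_lo step1_hi rfl rfl

theorem step5_lo : RuModel.chk step5.scanOK 0 2030 = true := by decide +kernel

theorem step5_hi : RuModel.chk step5.scanOK 2030 2030 = true := by decide +kernel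

theorem step5_ok : RuModel.chk step5.scanOK 0 4060 = true :=
  RuModel.chk_join step5_lo step5_hi rfl rfl

theorem step9_lo : RuModel.chk step9.scanOK 0 2030 = true := by decide +kernel

theorem step9_hi : RuModel.chk step9.scanOK 2030 2030 = true := by decide +kernel

theorem step9_ok : RuModel.chk step9.scanOK 0 4060 = true :=
  RuModel.chk_join step9_lo step9_hi rfl rfl

theorem step13_lo : RuModel.chk step13.scanOK 0 2030 = true := by decide +kernel

theorem step13_hi : RuModel.chk step13.scanOK 2030 2030 = true := by decide +kernel

theorem step13_ok : RuModel.chk step13.scanOK 0 4060 = true :=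
  RuModel.chk_join step13_lo step13_hi rfl rfl

theorem step17_lo : RuModel.chk step17.scanOK 0 2030 = true := by decide +kernel

theorem step17_hi : RuModel.chk step17.scanOK 2030 2030 = true := by decide +kernel

theorem step17_ok : RuModel.chk step17.scanOK 0 4060 = true :=
  RuModel.chk_join step17_lo step17_hi rfl rfl

theorem step21_lo : RuModel.chk step21.scanOK 0 2030 = true := by decide +kernel

theorem step21_hi : RuModel.chk step21.scanOK 2030 2030 = true := by decide +kernel

theorem step21_ok : RuModel.chk step21.scanOK 0 4060 = true :=
  RuModel.chk_join step21_lo step21_hi rfl rfl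

theorem step25_lo : RuModel.chk step25.scanOK 0 2030 = true := by decide +kernel

theorem step25_hi : RuModel.chk step25.scanOK 2030 2030 = true := by decide +kernel

theorem step25_ok : RuModel.chk step25.scanOK 0 4060 = true :=
  RuModel.chk_join step25_lo step25_hi rfl rfl

theorem step29_lo : RuModel.chk step29.scanOK 0 2030 = true := by decide +kernel

theorem step29_hi : RuModel.chk step29.scanOK 2030 2030 = true := by decide +kernel

theorem step29_ok : RuModel.chk step29.scanOK 0 4060 = true :=
  RuModel.chk_join step29_lo step29_hi rfl rfl

theorem step33_lo : RuModel.chk step33.scanOK 0 2030 = true := by decide +kernel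

theorem step33_hi : RuModel.chk step33.scanOK 2030 2030 = true := by decide +kernel

theorem step33_ok : RuModel.chk step33.scanOK 0 4060 = true :=
  RuModel.chk_join step33_lo step33_hi rfl rfl

end Cfsg.Lib.Rudvalis
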