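import Cfsg.Agent.Rudvalis.Aut.ChainDefs

/-!
# Scans of the 4060 lines for the chain, part 2

Each step is scanned in pieces.
-/

set_option autoImplicit false

namespace Cfsg.Lib.Rudvalis

theorem step2_lo : RuModel.chk step2.scanOK 0 2030 = true := by decide +kernel

theorem step2_hi : RuModel.chk step2.scanOK 2030 2030 = true := by decide +kernel

theorem step2_ok : RuModel.chk step2.scanOK 0 4060 = true :=
  RuModel.chk_join step2_lo step2_hi rfl rfl

theorem step6_lo : RuModel.chk step6.scanOK 0 2030 = true := by decide +kernel

theorem step6_hi : RuModel.chk step6.scanOK 2030 2030 = true := by decide +kernel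

theorem step6_ok : RuModel.chk step6.scanOK 0 4060 = true :=
  RuModel.chk_join step6_lo step6_hi rfl rfl

theorem step10_lo : RuModel.chk step10.scanOK 0 2030 = true := by decide +kernel

theorem step10_hi : RuModel.chk step10.scanOK 2030 2030 = true := by decide +kernel

theorem step10_ok : RuModel.chk step10.scanOK 0 4060 = true :=
  RuModel.chk_join step10_lo step10_hi rfl rfl

theorem step14_lo : RuModel.chk step14.scanOK 0 2030 = true := by decide +kernel

theorem step14_hi : RuModel.chk step14.scanOK 2030 2030 = true := by decide +kernel

theorem step14_ok : RuModel.chk step14.scanOK 0 4060 = true :=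
  RuModel.chk_join step14_lo step14_hi rfl rfl

theorem step18_lo : RuModel.chk step18.scanOK 0 2030 = true := by decide +kernel

theorem step18_hi : RuModel.chk step18.scanOK 2030 2030 = true := by decide +kernel

theorem step18_ok : RuModel.chk step18.scanOK 0 4060 = true :=
  RuModel.chk_join step18_lo step18_hi rfl rfl

theorem step22_lo : RuModel.chk step22.scanOK 0 2030 = true := by decide +kernel

theorem step22_hi : RuModel.chk step22.scanOK 2030 2030 = true := by decide +kernel

theorem step22_ok : RuModel.chk step22.scanOK 0 4060 = true :=
  RuModel.chk_join step22_lo step22_hi rfl rfl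

theorem step26_lo : RuModel.chk step26.scanOK 0 2030 = true := by decide +kernel

theorem step26_hi : RuModel.chk step26.scanOK 2030 2030 = true := by decide +kernel

theorem step26_ok : RuModel.chk step26.scanOK 0 4060 = true :=
  RuModel.chk_join step26_lo step26_hi rfl rfl

theorem step30_lo : RuModel.chk step30.scanOK 0 2030 = true := by decide +kernel

theorem step30_hi : RuModel.chk step30.scanOK 2030 2030 = true := by decide +kernel

theorem step30_ok : RuModel.chk step30.scanOK 0 4060 = true :=
  RuModel.chk_join step30_lo step30_hi rfl rfl

theorem step34_lo : RuModel.chk step34.scanOK 0 2030 = true := by decide +kernel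

theorem step34_hi : RuModel.chk step34.scanOK 2030 2030 = true := by decide +kernel

theorem step34_ok : RuModel.chk step34.scanOK 0 4060 = true :=
  RuModel.chk_join step34_lo step34_hi rfl rfl

end Cfsg.Lib.Rudvalis
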