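import Cfsg.Agent.Rudvalis.Aut.ChainDefs

/-!
# Scans of the 4060 lines for the chain, part 3

Each step is scanned in pieces.
-/

set_option autoImplicit false

namespace Cfsg.Lib.Rudvalis

theorem step3_lo : RuModel.chk step3.scanOK 0 2030 = true := by decide +kernel

theorem step3_hi : RuModel.chk step3.scanOK 2030 2030 = true := by decide +kernel

theorem step3_ok : RuModel.chk step3.scanOK 0 4060 = true :=
  RuModel.chk_join step3_lo step3_hi rfl rfl

theorem step7_lo : RuModel.chk step7.scanOK 0 2030 = true := by decide +kernel

theorem step7_hi : RuModel.chk step7.scanOK 2030 2030 = true := by decide +kernel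

theorem step7_ok : RuModel.chk step7.scanOK 0 4060 = true :=
  RuModel.chk_join step7_lo step7_hi rfl rfl

theorem step11_lo : RuModel.chk step11.scanOK 0 2030 = true := by decide +kernel

theorem step11_hi : RuModel.chk step11.scanOK 2030 2030 = true := by decide +kernel

theorem step11_ok : RuModel.chk step11.scanOK 0 4060 = true :=
  RuModel.chk_join step11_lo step11_hi rfl rfl

theorem step15_lo : RuModel.chk step15.scanOK 0 2030 = true := by decide +kernel

theorem step15_hi : RuModel.chk step15.scanOK 2030 2030 = true := by decide +kernel

theorem step15_ok : RuModel.chk step15.scanOK 0 4060 = true :=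
  RuModel.chk_join step15_lo step15_hi rfl rfl

theorem step19_lo : RuModel.chk step19.scanOK 0 2030 = true := by decide +kernel

theorem step19_hi : RuModel.chk step19.scanOK 2030 2030 = true := by decide +kernel

theorem step19_ok : RuModel.chk step19.scanOK 0 4060 = true :=
  RuModel.chk_join step19_lo step19_hi rfl rfl

theorem step23_lo : RuModel.chk step23.scanOK 0 2030 = true := by decide +kernel

theorem step23_hi : RuModel.chk step23.scanOK 2030 2030 = true := by decide +kernel

theorem step23_ok : RuModel.chk step23.scanOK 0 4060 = true :=
  RuModel.chk_join step23_lo step23_hi rfl rfl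

theorem step27_lo : RuModel.chk step27.scanOK 0 2030 = true := by decide +kernel

theorem step27_hi : RuModel.chk step27.scanOK 2030 2030 = true := by decide +kernel

theorem step27_ok : RuModel.chk step27.scanOK 0 4060 = true :=
  RuModel.chk_join step27_lo step27_hi rfl rfl

theorem step31_lo : RuModel.chk step31.scanOK 0 2030 = true := by decide +kernel

theorem step31_hi : RuModel.chk step31.scanOK 2030 2030 = true := by decide +kernel

theorem step31_ok : RuModel.chk step31.scanOK 0 4060 = true :=
  RuModel.chk_join step31_lo step31_hi rfl rfl

theorem step35_lo : RuModel.chk step35.scanOK 0 2030 = true := by decide +kernel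

theorem step35_hi : RuModel.chk step35.scanOK 2030 2030 = true := by decide +kernel

theorem step35_ok : RuModel.chk step35.scanOK 0 4060 = true :=
  RuModel.chk_join step35_lo step35_hi rfl rfl

end Cfsg.Lib.Rudvalis
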