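import Cfsg.Agent.Rudvalis.Aut.Action
import Cfsg.Agent.Rudvalis.Aut.ChainDefs
import Cfsg.Agent.Rudvalis.Aut.Scan0
import Cfsg.Agent.Rudvalis.Aut.Scan1
import Cfsg.Agent.Rudvalis.Aut.Scan2
import Cfsg.Agent.Rudvalis.Aut.Scan3

/-!
# The lattice automorphisms give no more than the permutation model

The stabiliser of three lines is cut down to sixteen elements, and what fixes enough lines is a scalar.
-/

set_option autoImplicit false

namespace Cfsg.Lib.Rudvalis

open Cfsg.Spor

theorem heads_ok : headsOK steps knownStart = true := by decide +kernel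

theorem scans_ok {s : Step} (h : s ∈ steps) : RuModel.chk s.scanOK 0 4060 = true := by
  have key : steps.all (fun s => RuModel.chk s.scanOK 0 4060) = true := by
    simp only [steps, List.all_cons, List.all_nil, Bool.and_true,
      step0_ok, step1_ok, step2_ok, step3_ok, step4_ok, step5_ok,
      step6_ok, step7_ok, step8_ok, step9_ok, step10_ok, step11_ok,
      step12_ok, step13_ok, step14_ok, step15_ok, step16_ok, step17_ok,
      step18_ok, step19_ok, step20_ok, step21_ok, step22_ok, step23_ok,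
      step24_ok, step25_ok, step26_ok, step27_ok, step28_ok, step29_ok,
      step30_ok, step31_ok, step32_ok, step33_ok, step34_ok, step35_ok,
      step36_ok]
  exact List.all_eq_true.mp key s h

/-- The frame and the links are right. -/
def frameChainOK : Bool :=
  let known := knownStart ++ steps.map fun s => s.allow.getD 0 0
  (List.range 28).all (fun k =>
    let f := frameLines.getD k 0
    let c := lineCode f
    known.contains f &&
      ((List.range 56).all (fun j => if Nat.beq (j / 2) k then true else decide (wt c j = 0)) &&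
        !(decide (wt c (2 * k) = 0) && decide (wt c (2 * k + 1) = 0)))) &&
    decide ((steps.map fun s => s.allow.length).prod = 16)

theorem frame_chain_ok : frameChainOK = true := by decide +kernel

/-- The coordinates reached by the links. -/
def linksOK : List (ℕ × ℕ × ℕ) → List ℕ → Bool
  | [], done => (List.range 28).all fun k => done.contains k
  | (k, c, k0) :: r, done =>
    (knownStart ++ steps.map fun s => s.allow.getD 0 0).contains c && (decide (k < 28) && (done.contains k0 &&
      (!(decide (wt (lineCode c) (2 * k) = 0) && decide (wt (lineCode c) (2 * k + 1) = 0)) &&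
        (!(decide (wt (lineCode c) (2 * k0) = 0) && decide (wt (lineCode c) (2 * k0 + 1) = 0)) &&
          linksOK r (k :: done)))))

theorem links_ok : linksOK frameLinks [0] = true := by decide +kernel

theorem coord_val (p : RuIdx) (t : Fin 2) : ((coordEquiv (p, t) : Fin 56) : ℕ) = 2 * pIdx p + (t : ℕ) := by
  simp only [pIdx, coordEquiv, Equiv.trans_apply, Equiv.prodCongr_apply, Prod.map, Equiv.refl_apply]
  rw [finProdFinEquiv_apply_val]
  dsimp only
  omega

theorem vec_apply (c : ℕ) (p : RuIdx) : vec c p = ⟨wt c (2 * pIdx p), wt c (2 * pIdx p + 1)⟩ := by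
  simp only [vec, unflat, coord_val, Fin.val_zero, Fin.val_one, add_zero]

/-- The coordinate with a given number. -/
def idxOf (k : ℕ) (h : k < 28) : RuIdx := finProdFinEquiv.symm ⟨k, h⟩

theorem pIdx_idxOf {k : ℕ} (h : k < 28) : pIdx (idxOf k h) = k := by
  simp [pIdx, idxOf]

theorem unit_norm : ∀ u : ℕ, star (gI ^ u) * gI ^ u = 1 := fun u => by
  rw [star_pow, ← mul_pow, show star gI * gI = 1 from rfl, one_pow]

theorem hL_move (g : fourRu) (x y : Fin 4060) : ∃ a b : ℕ,
    hL x y = star (gI ^ a) * gI ^ b * hL (move g x) (move g y) ∧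
      ((g.1 (latLine x) : ruLattice) : RuVec) = gI ^ a • lineVec (move g x) ∧
      ((g.1 (latLine y) : ruLattice) : RuVec) = gI ^ b • lineVec (move g y) := by
  obtain ⟨a, ha⟩ := move_spec g x
  obtain ⟨b, hb⟩ := move_spec g y
  refine ⟨a, b, ?_, ha, hb⟩
  have h := aut_herm g (latLine x) (latLine y)
  rw [ha, hb, herm_smul] at h
  simp only [latLine, lineVec, herm_vec] at h
  rw [hL, hL, ← h]

theorem tri_move (g : fourRu) (p q y : Fin 4060) :
    tri p q y = tri (move g p) (move g q) (move g y) := by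
  obtain ⟨a, ha⟩ := move_spec g p
  obtain ⟨b, hb⟩ := move_spec g q
  obtain ⟨c, hc⟩ := move_spec g y
  have key : ∀ {x z : Fin 4060} {i j : ℕ},
      ((g.1 (latLine x) : ruLattice) : RuVec) = gI ^ i • lineVec (move g x) →
      ((g.1 (latLine z) : ruLattice) : RuVec) = gI ^ j • lineVec (move g z) →
      hL x z = star (gI ^ i) * gI ^ j * hL (move g x) (move g z) := fun {x z i j} hx hz => by
    have h := aut_herm g (latLine x) (latLine z)
    rw [hx, hz, herm_smul] at h
    simp only [latLine, lineVec, herm_vec] at h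
    rw [hL, hL, ← h]
  rw [tri, tri, key ha hc, key hb hc, key hb ha, star_mul', star_mul', star_star]
  linear_combination (hL (move g p) (move g y) * star (hL (move g q) (move g y)) * hL (move g q) (move g p)) *
    (star (gI ^ b) * gI ^ b * (star (gI ^ c) * gI ^ c) * unit_norm a + star (gI ^ c) * gI ^ c * unit_norm b +
      unit_norm c)

theorem Item.test_iff {it : Item} (h : it.wellOK = true) (y : ℕ) :
    it.test y = true ↔ tri it.p it.q y = ⟨it.vre, it.vim⟩ := by
  simp only [Item.wellOK, Bool.and_eq_true, Bool.or_eq_true, decide_eq_true_eq, Bool.not_eq_true'] at h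
  obtain ⟨hc, hpq⟩ := h
  have e : ∀ x, hL x y = ⟨dotC (lineCode x) (lineCode y), dotC (rotC (lineCode x)) (lineCode y)⟩ := fun x => rfl
  rw [Item.test, tri, hc, e, e]
  by_cases hb : Nat.beq it.p it.q = true
  · rw [if_pos hb]
    rcases hpq with hpq | hpq
    · rw [hb] at hpq; cases hpq
    · rw [← Nat.eq_of_beq_eq_true hb, decide_eq_true_eq, Zsqrtd.ext_iff]
      simp [hpq.1, hpq.2]
      exact fun _ => Or.inl (by ring)
  · rw [if_neg hb, Bool.and_eq_true, decide_eq_true_eq, decide_eq_true_eq, Zsqrtd.ext_iff]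
    simp
    constructor
    · rintro ⟨h1, h2⟩; exact ⟨by linarith, by linarith⟩
    · rintro ⟨h1, h2⟩; exact ⟨by linarith, by linarith⟩

/-- The lines as numbers, fixed by a permutation. -/
def FixesAll (σ : Equiv.Perm (Fin 4060)) (l : List ℕ) : Prop := ∀ x : Fin 4060, (x : ℕ) ∈ l → σ x = x

theorem scalar_of_fixes (g : fourRu)
    (h : FixesAll (linePerm g) (knownStart ++ steps.map fun s => s.allow.getD 0 0)) :
    ∃ u : ℕ, ∀ z : ruLattice, ((g.1 z : ruLattice) : RuVec) = gI ^ u • (z : RuVec) := by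
  have hf := frame_chain_ok
  simp only [frameChainOK, Bool.and_eq_true, List.all_eq_true, List.mem_range, List.contains_iff_mem] at hf
  obtain ⟨hf, -⟩ := hf
  have hfix : ∀ c, c ∈ knownStart ++ steps.map (fun s => s.allow.getD 0 0) → ∀ hc : c < 4060, ∃ u : ℕ,
      ((g.1 (latLine ⟨c, hc⟩) : ruLattice) : RuVec) = gI ^ u • lineVec ⟨c, hc⟩ := by
    intro c hc hlt
    obtain ⟨u, hu⟩ := move_spec g ⟨c, hlt⟩
    exact ⟨u, by rw [hu, ← linePerm_apply, h ⟨c, hlt⟩ hc]⟩
  have hbound : ∀ c ∈ knownStart ++ steps.map (fun s => s.allow.getD 0 0), c < 4060 := by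
    have : ((knownStart ++ steps.map fun s => s.allow.getD 0 0).all fun c => Nat.blt c 4060) = true := by
      decide +kernel
    intro c hc
    simpa [Nat.blt] using List.all_eq_true.mp this c hc
  -- every coordinate gets a unit
  have hlam : ∀ p : RuIdx, ∃ u : ℕ, ∀ z : ruLattice,
      ((g.1 z : ruLattice) : RuVec) p = gI ^ u * (z : RuVec) p := by
    intro p
    obtain ⟨hmem, hz0, hnz⟩ := hf (pIdx p) (Fin.isLt _)
    set f := frameLines.getD (pIdx p) 0
    obtain ⟨u, hu⟩ := hfix f hmem (hbound f hmem)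
    refine ⟨u, fun z => ?_⟩
    have hs : ∀ w : RuVec, herm w (lineVec ⟨f, hbound f hmem⟩) = star (w p) * lineVec ⟨f, hbound f hmem⟩ p := by
      intro w
      rw [herm]
      refine Finset.sum_eq_single p (fun q _ hq => ?_) (by simp)
      have hne : pIdx q ≠ pIdx p := fun e => hq (finProdFinEquiv.injective (Fin.ext e))
      have h0 : ∀ j, j / 2 = pIdx q → wt (lineCode f) j = 0 := fun j hj => by
        have hq28 : pIdx q < 28 := Fin.isLt _
        have h' := hz0 j (by omega)
        rw [if_neg (by intro e; exact hne (hj.symm.trans (Nat.eq_of_beq_eq_true e))), decide_eq_true_eq] at h'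
        exact h'
      rw [lineVec, vec_apply, h0 _ (by omega), h0 _ (by omega)]
      exact mul_zero _
    have hne : lineVec ⟨f, hbound f hmem⟩ p ≠ 0 := by
      intro e
      rw [lineVec, vec_apply, Zsqrtd.ext_iff] at e
      have e1 : wt (lineCode f) (2 * pIdx p) = 0 := e.1
      have e2 : wt (lineCode f) (2 * pIdx p + 1) = 0 := e.2
      simp [e1, e2] at hnz
    have hh := aut_herm g z (latLine ⟨f, hbound f hmem⟩)
    rw [hu] at hh
    have e2 : herm ((g.1 z : ruLattice) : RuVec) (gI ^ u • lineVec ⟨f, hbound f hmem⟩) =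
        gI ^ u * herm ((g.1 z : ruLattice) : RuVec) (lineVec ⟨f, hbound f hmem⟩) := by
      have := herm_smul 1 (gI ^ u) ((g.1 z : ruLattice) : RuVec) (lineVec ⟨f, hbound f hmem⟩)
      simpa using this
    rw [e2, hs, show herm (z : RuVec) ((latLine ⟨f, hbound f hmem⟩ : ruLattice) : RuVec) = _ from hs z,
      ← mul_assoc] at hh
    have h1 := congrArg star (mul_right_cancel₀ hne hh)
    simp only [star_mul', star_star] at h1
    rw [← h1, ← mul_assoc, mul_comm (gI ^ u), unit_norm, one_mul]
  choose lam hlam using hlam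
  have hlink : ∀ (l : List (ℕ × ℕ × ℕ)) (done : List ℕ), linksOK l done = true →
      (∀ k ∈ done, ∀ hk : k < 28, gI ^ lam (idxOf k hk) = gI ^ lam (idxOf 0 (by norm_num))) →
      ∀ k (hk : k < 28), gI ^ lam (idxOf k hk) = gI ^ lam (idxOf 0 (by norm_num)) := by
    intro l
    induction l with
    | nil =>
      intro done hd hall k hk
      simp only [linksOK, List.all_eq_true, List.mem_range, List.contains_iff_mem] at hd
      exact hall k (hd k hk) hk
    | cons a r ih =>
      obtain ⟨k, c, k0⟩ := a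
      intro done hd hall
      simp only [linksOK, Bool.and_eq_true, List.contains_iff_mem, decide_eq_true_eq] at hd
      obtain ⟨hc, hk, hk0, hn, hn0, hr⟩ := hd
      refine ih _ hr fun j hj hj' => ?_
      rcases List.mem_cons.mp hj with rfl | hj
      · obtain ⟨u, hu⟩ := hfix c hc (hbound c hc)
        have key : ∀ m (hm : m < 28), (!(decide (wt (lineCode c) (2 * m) = 0) &&
            decide (wt (lineCode c) (2 * m + 1) = 0))) = true → gI ^ lam (idxOf m hm) = gI ^ u := by
          intro m hm hnm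
          have h1 := hlam (idxOf m hm) (latLine ⟨c, hbound c hc⟩)
          rw [hu, Pi.smul_apply, smul_eq_mul] at h1
          refine (mul_right_cancel₀ ?_ h1).symm
          intro e
          rw [lineVec, vec_apply, Zsqrtd.ext_iff, pIdx_idxOf] at e
          have e1 : wt (lineCode c) (2 * m) = 0 := e.1
          have e2 : wt (lineCode c) (2 * m + 1) = 0 := e.2
          simp [e1, e2] at hnm
        have hk0' : k0 < 28 := by
          by_contra hge
          have hz : ∀ j, 56 ≤ j → wt (lineCode c) j = 0 := fun j hj => by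
            rw [wt, testBit_sup, decide_eq_false (by omega)]; simp
          simp [hz (2 * k0) (by omega), hz (2 * k0 + 1) (by omega)] at hn0
        rw [key _ hj' hn, ← hall k0 hk0 hk0', key k0 hk0' hn0]
      · exact hall j hj hj'
  refine ⟨lam (idxOf 0 (by norm_num)), fun z => funext fun p => ?_⟩
  rw [hlam p z, Pi.smul_apply, smul_eq_mul, ← hlink frameLinks [0] links_ok (fun k hk hk' => by
    obtain rfl := List.mem_singleton.mp hk; rfl) (pIdx p) (Fin.isLt _),
    show idxOf (pIdx p) (Fin.isLt _) = p from by simp [idxOf, pIdx]]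

theorem linePerm_scalar {g : fourRu} {u : ℕ}
    (h : ∀ z : ruLattice, ((g.1 z : ruLattice) : RuVec) = gI ^ u • (z : RuVec)) : linePerm g = 1 :=
  Equiv.ext fun x => move_eq (h (latLine x))

/-- The image of the automorphism group. -/
noncomputable def lineGroup : Subgroup (Equiv.Perm (Fin 4060)) := linePerm.range

theorem lineGroup_tri {σ : Equiv.Perm (Fin 4060)} (hσ : σ ∈ lineGroup) {p q : Fin 4060} (hp : σ p = p) (hq : σ q = q)
    (y : Fin 4060) : tri p q (σ y) = tri p q y := by
  obtain ⟨g, rfl⟩ := hσ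
  rw [tri_move g p q y, ← linePerm_apply, ← linePerm_apply, ← linePerm_apply, hp, hq]

theorem card_chain : ∀ (l : List Step) (known : List ℕ) (K : Subgroup (Equiv.Perm (Fin 4060))),
    (∀ s ∈ l, s ∈ steps) → headsOK l known = true → K ≤ lineGroup → (∀ σ ∈ K, FixesAll σ known) →
      (known ++ l.map fun s => s.allow.getD 0 0) = knownStart ++ steps.map (fun s => s.allow.getD 0 0) →
      Nat.card K ≤ (l.map fun s => s.allow.length).prod
  | [], known, K, _, _, hK, hfix, he => by
    have : K = ⊥ := (Subgroup.eq_bot_iff_forall K).mpr fun σ hσ => by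
      obtain ⟨g, rfl⟩ := hK hσ
      rw [List.map_nil, List.append_nil] at he
      obtain ⟨u, hu⟩ := scalar_of_fixes g (he ▸ hfix _ hσ)
      exact linePerm_scalar hu
    simp [this]
  | s :: r, known, K, hsub, hok, hK, hfix, he => by
    simp only [headsOK, Step.headOK, Bool.and_eq_true, List.all_eq_true, decide_eq_true_eq,
      List.contains_iff_mem] at hok
    obtain ⟨⟨hne, hlt, hitems⟩, hr⟩ := hok
    have ha : s.allow.getD 0 0 < 4060 := by
      cases hl : s.allow with
      | nil => norm_num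
      | cons x xs => exact hlt x (by simp [hl])
    let a : Fin 4060 := ⟨s.allow.getD 0 0, ha⟩
    have horb : ∀ σ ∈ K, (σ a : ℕ) ∈ s.allow := by
      intro σ hσ
      have hscan := RuModel.chk_apply (scans_ok (hsub s List.mem_cons_self)) (σ a).isLt
      have hpass : (s.items.all fun it => it.test (σ a : ℕ)) = true := by
        refine List.all_eq_true.mpr fun it hit => ?_
        obtain ⟨hp, hq, hw, ht⟩ := hitems it hit
        have hp' : it.p < 4060 ∧ it.q < 4060 := by
          have hb : ((knownStart ++ steps.map fun s => s.allow.getD 0 0).all fun c => Nat.blt c 4060) = true := by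
            decide +kernel
          simp only [List.all_eq_true, Nat.blt, Nat.ble_eq] at hb
          exact ⟨hb _ (he ▸ List.mem_append_left _ hp), hb _ (he ▸ List.mem_append_left _ hq)⟩
        rw [Item.test_iff hw] at ht ⊢
        rw [← ht]
        exact lineGroup_tri (hK hσ) (p := ⟨it.p, hp'.1⟩) (q := ⟨it.q, hp'.2⟩) (hfix σ hσ _ hp) (hfix σ hσ _ hq) a
      rw [Step.scanOK, hpass, if_pos rfl, List.contains_iff_mem] at hscan
      exact hscan
    have hcard : Nat.card K = (MulAction.orbit K a).ncard * Nat.card (MulAction.stabilizer K a) := by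
      rw [← Nat.card_coe_set_eq, ← Nat.card_prod]
      exact Nat.card_congr (MulAction.orbitProdStabilizerEquivGroup K a).symm
    have horb2 : (MulAction.orbit K a).ncard ≤ s.allow.length := by
      refine le_trans ?_ (List.toFinset_card_le (l := s.allow))
      rw [← Set.ncard_coe_finset, ← Set.ncard_image_of_injective (MulAction.orbit K a) Fin.val_injective]
      refine Set.ncard_le_ncard ?_ (Finset.finite_toSet _)
      rintro _ ⟨_, ⟨σ, rfl⟩, rfl⟩
      rw [Finset.mem_coe, List.mem_toFinset]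
      exact horb σ.1 σ.2
    let K' : Subgroup (Equiv.Perm (Fin 4060)) := K ⊓ MulAction.stabilizer (Equiv.Perm (Fin 4060)) a
    have hstab : Nat.card (MulAction.stabilizer K a) = Nat.card K' :=
      Nat.card_congr
        { toFun := fun σ => ⟨σ.1.1, σ.1.2, σ.2⟩
          invFun := fun σ => ⟨⟨σ.1, σ.2.1⟩, σ.2.2⟩
          left_inv := fun _ => rfl
          right_inv := fun _ => rfl }
    have hrec := card_chain r (known ++ [s.allow.getD 0 0]) K' (fun t ht => hsub t (List.mem_cons_of_mem s ht)) hr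
      (inf_le_left.trans hK) (fun σ hσ x hx => by
        rcases List.mem_append.mp hx with hx | hx
        · exact hfix σ hσ.1 x hx
        · rw [show x = a from Fin.ext (List.mem_singleton.mp hx)]; exact hσ.2)
      (by rw [← he]; simp)
    rw [hcard, hstab, List.map_cons, List.prod_cons]
    exact Nat.mul_le_mul horb2 hrec

/-- The first suborbit and the second step are classes of the invariants. -/
def levelsOK (y : ℕ) : Bool :=
  let a := (⟨0, 0, 16, 0, 0, 0⟩ : Item).test y
  let b := (⟨0, 0, 16, 0, 256, 0⟩ : Item).test y && (⟨1, 1, 16, 0, 256, 0⟩ : Item).test y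
  let i := RuModel.ru1.pos.get 12 y
  let j := RuModel.ru2.pos.get 12 y
  (!a || (decide (i < 1755) && Nat.beq (RuModel.ru1.pt i) y)) &&
    (!b || (decide (j < 1280) && Nat.beq (RuModel.ru2.pt j) y))

theorem levels_lo : RuModel.chk levelsOK 0 2030 = true := by decide +kernel

theorem levels_hi : RuModel.chk levelsOK 2030 2030 = true := by decide +kernel

/-- The base lines pass their invariants. -/
def basesOK : Bool :=
  let i1 : Item := ⟨0, 0, 16, 0, 0, 0⟩
  let i2 : Item := ⟨0, 0, 16, 0, 256, 0⟩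
  let i3 : Item := ⟨1, 1, 16, 0, 256, 0⟩
  i1.wellOK && i2.wellOK && i3.wellOK && i1.test 1 && i2.test 2 && i3.test 2 &&
    Nat.beq (RuModel.ru0.pt 0) 0 && Nat.beq (RuModel.ru1.pt 0) 1 && Nat.beq (RuModel.ru2.pt 0) 2

theorem bases_ok : basesOK = true := by decide +kernel

theorem lineGroup_eq : lineGroup = RuModel.ruGroup := by
  refine le_antisymm (fun σ hσ => ?_) ruGroup_le_range
  have hb := bases_ok
  simp only [basesOK, Bool.and_eq_true] at hb
  obtain ⟨⟨⟨⟨⟨⟨⟨⟨w1, w2⟩, w3⟩, t1⟩, t2⟩, t3⟩, p0⟩, p1⟩, p2⟩ := hb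
  have e0 : RuModel.b0 = (0 : Fin 4060) := Fin.ext (Nat.eq_of_beq_eq_true p0)
  have e1 : RuModel.b1 = (1 : Fin 4060) := Fin.ext (Nat.eq_of_beq_eq_true p1)
  have e2 : RuModel.b2 = (2 : Fin 4060) := Fin.ext (Nat.eq_of_beq_eq_true p2)
  have hlevels := RuModel.chk_join levels_lo levels_hi rfl (rfl : 2030 + 2030 = 4060)
  have hru : RuModel.ruGroup ≤ lineGroup := ruGroup_le_range
  have h1le : RuModel.gen RuModel.gs1 ≤ RuModel.ruGroup := RuModel.level0.le
  have h2le : RuModel.gen RuModel.gs2 ≤ RuModel.ruGroup := RuModel.level1.le.trans h1le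
  -- move the first three lines back
  obtain ⟨h0, hh0⟩ := MulAction.exists_smul_eq RuModel.ruGroup (0 : Fin 4060) (σ 0)
  set σ1 := h0.1⁻¹ * σ with hσ1
  have hσ1G : σ1 ∈ lineGroup := mul_mem (inv_mem (hru h0.2)) hσ
  have f10 : σ1 0 = 0 := by
    rw [hσ1, Equiv.Perm.mul_apply, ← hh0]; exact h0.1.symm_apply_apply 0
  have hm1 : RuModel.ru1.pos.get 12 (σ1 1 : Fin 4060) < 1755 ∧
      RuModel.ru1.pt (RuModel.ru1.pos.get 12 (σ1 1 : Fin 4060)) = (σ1 1 : Fin 4060) := by
    have h := RuModel.chk_apply hlevels (σ1 1).isLt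
    simp only [levelsOK, Bool.and_eq_true, Bool.or_eq_true, decide_eq_true_eq] at h
    rcases h.1 with h' | h'
    · rw [Bool.not_eq_true', ← Bool.not_eq_true, Item.test_iff w1] at h'
      refine absurd ?_ h'
      rw [← (Item.test_iff w1 _).mp t1]
      exact lineGroup_tri hσ1G (p := 0) (q := 0) f10 f10 1
    · exact ⟨h'.1, Nat.eq_of_beq_eq_true h'.2⟩
  obtain ⟨h1, hh1, -, hb1⟩ := RuModel.level1.elems _ hm1.1
  set σ2 := h1⁻¹ * σ1 with hσ2
  have hσ2G : σ2 ∈ lineGroup := mul_mem (inv_mem (hru (h1le hh1))) hσ1G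
  have f20 : σ2 0 = 0 := by
    rw [hσ2, Equiv.Perm.mul_apply, f10, Equiv.Perm.inv_eq_iff_eq, ← e0, RuModel.level0.fixed h1 hh1]
  have f21 : σ2 1 = 1 := by
    rw [hσ2, Equiv.Perm.mul_apply, Equiv.Perm.inv_eq_iff_eq]
    refine Fin.ext ?_
    rw [← hm1.2, ← hb1, e1]
  have hm2 : RuModel.ru2.pos.get 12 (σ2 2 : Fin 4060) < 1280 ∧
      RuModel.ru2.pt (RuModel.ru2.pos.get 12 (σ2 2 : Fin 4060)) = (σ2 2 : Fin 4060) := by
    have h := RuModel.chk_apply hlevels (σ2 2).isLt
    simp only [levelsOK, Bool.and_eq_true, Bool.or_eq_true, decide_eq_true_eq] at h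
    rcases h.2 with h' | h'
    · rw [Bool.not_eq_true', ← Bool.not_eq_true, Bool.and_eq_true, Item.test_iff w2, Item.test_iff w3] at h'
      refine absurd ⟨?_, ?_⟩ h'
      · rw [← (Item.test_iff w2 _).mp t2]
        exact lineGroup_tri hσ2G (p := 0) (q := 0) f20 f20 2
      · rw [← (Item.test_iff w3 _).mp t3]
        exact lineGroup_tri hσ2G (p := 1) (q := 1) f21 f21 2
    · exact ⟨h'.1, Nat.eq_of_beq_eq_true h'.2⟩
  obtain ⟨h2, hh2, -, hb2⟩ := RuModel.level2.elems _ hm2.1
  set σ3 := h2⁻¹ * σ2 with hσ3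
  have hh21 : h2 ∈ RuModel.gen RuModel.gs1 := RuModel.level1.le hh2
  have f30 : σ3 0 = 0 := by
    rw [hσ3, Equiv.Perm.mul_apply, f20, Equiv.Perm.inv_eq_iff_eq, ← e0, RuModel.level0.fixed h2 hh21]
  have f31 : σ3 1 = 1 := by
    rw [hσ3, Equiv.Perm.mul_apply, f21, Equiv.Perm.inv_eq_iff_eq, ← e1, RuModel.level1.fixed h2 hh2]
  have f32 : σ3 2 = 2 := by
    rw [hσ3, Equiv.Perm.mul_apply, Equiv.Perm.inv_eq_iff_eq]
    refine Fin.ext ?_
    rw [← hm2.2, ← hb2, e2]
  have hσ3G : σ3 ∈ lineGroup := mul_mem (inv_mem (hru (h2le hh2))) hσ2G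
  -- the stabiliser of three lines
  let K : Subgroup (Equiv.Perm (Fin 4060)) :=
    { carrier := {τ | τ ∈ lineGroup ∧ τ 0 = 0 ∧ τ 1 = 1 ∧ τ 2 = 2}
      one_mem' := ⟨one_mem _, rfl, rfl, rfl⟩
      mul_mem' := fun {a b} ha hb => ⟨mul_mem ha.1 hb.1, by rw [Equiv.Perm.mul_apply, hb.2.1, ha.2.1],
        by rw [Equiv.Perm.mul_apply, hb.2.2.1, ha.2.2.1], by rw [Equiv.Perm.mul_apply, hb.2.2.2, ha.2.2.2]⟩
      inv_mem' := fun {a} ha => ⟨inv_mem ha.1, by rw [Equiv.Perm.inv_eq_iff_eq, ha.2.1],
        by rw [Equiv.Perm.inv_eq_iff_eq, ha.2.2.1], by rw [Equiv.Perm.inv_eq_iff_eq, ha.2.2.2]⟩ }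
  have hK16 : Nat.card K ≤ 16 := by
    have hp := frame_chain_ok
    simp only [frameChainOK, Bool.and_eq_true, decide_eq_true_eq] at hp
    rw [← hp.2]
    refine card_chain steps knownStart K (fun _ hs => hs) heads_ok (fun τ hτ => hτ.1) (fun τ hτ x hx => ?_) rfl
    have hx' : (x : ℕ) = 0 ∨ (x : ℕ) = 1 ∨ (x : ℕ) = 2 := by simpa [knownStart] using hx
    rcases hx' with e | e | e
    · rw [show x = 0 from Fin.ext e]; exact hτ.2.1
    · rw [show x = 1 from Fin.ext e]; exact hτ.2.2.1
    · rw [show x = 2 from Fin.ext e]; exact hτ.2.2.2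
  have hgs3 : RuModel.gen RuModel.gs3 ≤ RuModel.gen RuModel.gs2 := RuModel.level2.le
  have hsub : RuModel.gen RuModel.gs3 ≤ K := fun τ hτ =>
    ⟨hru (h2le (hgs3 hτ)), e0 ▸ RuModel.level0.fixed τ (RuModel.level1.le (hgs3 hτ)),
      e1 ▸ RuModel.level1.fixed τ (hgs3 hτ), e2 ▸ RuModel.level2.fixed τ hτ⟩
  have h16 : Nat.card (RuModel.gen RuModel.gs3) = 16 := by
    rw [RuModel.level3.card]; simp [RuModel.ru3]
  have hKeq : RuModel.gen RuModel.gs3 = K := Subgroup.eq_of_le_of_card_ge hsub (h16.symm ▸ hK16)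
  have h3 : σ3 ∈ RuModel.ruGroup := h2le (hgs3 (hKeq ▸ (show σ3 ∈ K from ⟨hσ3G, f30, f31, f32⟩)))
  have e : σ = h0.1 * (h1 * (h2 * σ3)) := by rw [hσ3, hσ2, hσ1]; group
  rw [e]
  exact mul_mem h0.2 (mul_mem (h1le hh1) (mul_mem (h2le hh2) h3))

end Cfsg.Lib.Rudvalis
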