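import Cfsg.Agent.Rudvalis.Minimum

/-!
# Packed short vectors of the lattice of the Rudvalis group

A short vector is a support mask, a sign mask and a flag for the single large coordinate.
-/

set_option autoImplicit false

namespace Cfsg.Lib.Rudvalis

open Cfsg.Spor

/-- The support mask. -/
def sup (c : ℕ) : ℕ := c % 2 ^ 56

/-- The sign mask. -/
def sgm (c : ℕ) : ℕ := (c >>> 56) % 2 ^ 56

/-- The size of the coordinates. -/
def mg (c : ℕ) : ℤ := if c >>> 112 = 0 then 1 else 4

/-- A coordinate of a packed vector. -/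
def wt (c j : ℕ) : ℤ := if (sup c).testBit j then (if (sgm c).testBit j then -mg c else mg c) else 0

/-- The unpacked vector. -/
def vec (c : ℕ) : RuVec := unflat fun j => wt c j

theorem flat_vec (c : ℕ) (j : Fin 56) : flat (vec c) j = wt c j := by rw [vec, flat_unflat]

/-- The even positions. -/
def evens : ℕ := 0x55555555555555

/-- Multiplication by the unit on packed vectors. -/
def rotC (c : ℕ) : ℕ :=
  let S := sup c
  let N := sgm c
  ((S &&& evens) <<< 1 ||| ((S >>> 1) &&& evens)) |||
    (((N &&& evens) <<< 1 ||| (((N ^^^ S) >>> 1) &&& evens)) <<< 56) ||| ((c >>> 112) <<< 112)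

theorem testBit_evens : ∀ j, j < 56 → evens.testBit j = decide (j % 2 = 0) := by decide +kernel

theorem testBit_sup (c j : ℕ) : (sup c).testBit j = (decide (j < 56) && c.testBit j) := Nat.testBit_mod_two_pow ..

theorem testBit_sgm (c j : ℕ) : (sgm c).testBit j = (decide (j < 56) && c.testBit (56 + j)) := by
  rw [sgm, Nat.testBit_mod_two_pow, Nat.testBit_shiftRight]

theorem evens_high (j : ℕ) (h : 55 ≤ j) : evens.testBit j = false :=
  Nat.testBit_eq_false_of_lt (lt_of_lt_of_le (by decide : evens < 2 ^ 55) (Nat.pow_le_pow_right (by norm_num) h))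

theorem rot_bit (S T : ℕ) {j : ℕ} (hj : j < 56) :
    ((S &&& evens) <<< 1 ||| ((T >>> 1) &&& evens)).testBit j =
      if j % 2 = 0 then T.testBit (j + 1) else S.testBit (j - 1) := by
  rw [Nat.testBit_or, Nat.testBit_shiftLeft, Nat.testBit_and, Nat.testBit_and, Nat.testBit_shiftRight,
    Nat.add_comm 1 j]
  rcases Nat.mod_two_eq_zero_or_one j with h | h
  · rw [if_pos h, testBit_evens j hj, decide_eq_true h, Bool.and_true]
    rcases j with _ | j
    · simp
    · rw [Nat.add_sub_cancel, testBit_evens j (by omega), decide_eq_false (by omega : ¬j % 2 = 0), Bool.and_false,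
        Bool.and_false, Bool.false_or]
  · rw [if_neg (by omega), testBit_evens j hj, decide_eq_false (by omega : ¬j % 2 = 0), Bool.and_false,
      Bool.or_false, testBit_evens (j - 1) (by omega), decide_eq_true (by omega : (j - 1) % 2 = 0), Bool.and_true,
      decide_eq_true (by omega : 1 ≤ j), Bool.true_and]

theorem rot_high (S T : ℕ) {j : ℕ} (hj : 56 ≤ j) :
    ((S &&& evens) <<< 1 ||| ((T >>> 1) &&& evens)).testBit j = false := by
  rw [Nat.testBit_or, Nat.testBit_shiftLeft, Nat.testBit_and, Nat.testBit_and, evens_high j (by omega),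
    evens_high (j - 1) (by omega)]
  simp

theorem rotC_parts (c : ℕ) :
    sup (rotC c) = ((sup c &&& evens) <<< 1 ||| ((sup c >>> 1) &&& evens)) ∧
      sgm (rotC c) = ((sgm c &&& evens) <<< 1 ||| (((sgm c ^^^ sup c) >>> 1) &&& evens)) ∧
      rotC c >>> 112 = c >>> 112 := by
  refine ⟨?_, ?_, ?_⟩ <;> apply Nat.eq_of_testBit_eq <;> intro i
  · rw [testBit_sup]
    by_cases hi : i < 56
    · simp [rotC, hi, Nat.testBit_shiftLeft, show ¬ 56 ≤ i by omega, show ¬ 112 ≤ i by omega]
    · rw [rot_high _ _ (by omega)]; simp [hi]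
  · rw [testBit_sgm]
    by_cases hi : i < 56
    · rw [rotC, Nat.testBit_or, Nat.testBit_or, rot_high _ _ (j := 56 + i) (by omega)]
      simp [hi, Nat.testBit_shiftLeft, show ¬ 112 ≤ 56 + i by omega]
    · rw [rot_high _ _ (by omega)]; simp [hi]
  · rw [rotC, Nat.testBit_shiftRight, Nat.testBit_or, Nat.testBit_or, rot_high _ _ (j := 112 + i) (by omega),
      Nat.testBit_shiftLeft, rot_high _ _ (j := 112 + i - 56) (by omega)]
    simp [Nat.testBit_shiftLeft, Nat.testBit_shiftRight]

theorem wt_rotC (c : ℕ) {j : ℕ} (hj : j < 56) :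
    wt (rotC c) j = if j % 2 = 0 then -wt c (j + 1) else wt c (j - 1) := by
  obtain ⟨h1, h2, h3⟩ := rotC_parts c
  rw [wt, h1, h2, mg, h3, rot_bit _ _ hj, rot_bit _ _ hj]
  rcases Nat.mod_two_eq_zero_or_one j with h | h
  · simp only [if_pos h, Nat.testBit_xor, wt, mg]
    cases (sup c).testBit (j + 1) <;> cases (sgm c).testBit (j + 1) <;> simp
  · simp only [if_neg (show ¬ j % 2 = 0 by omega), wt, mg]

theorem flat_gI (v : RuVec) (j : Fin 56) :
    flat (gI • v) j = if (j : ℕ) % 2 = 0 then -flat v ⟨((j : ℕ) + 1) % 56, Nat.mod_lt _ (by norm_num)⟩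
      else flat v ⟨(j : ℕ) - 1, by omega⟩ := by
  obtain ⟨⟨p, t⟩, rfl⟩ := coordEquiv.surjective j
  have hv : ∀ (p : RuIdx) (t : Fin 2), ((coordEquiv (p, t) : Fin 56) : ℕ) =
      2 * (finProdFinEquiv p : ℕ) + (t : ℕ) := fun p t => by
    simp only [coordEquiv, Equiv.trans_apply, Equiv.prodCongr_apply, Prod.map, Equiv.refl_apply]
    rw [finProdFinEquiv_apply_val]
    dsimp only
    omega
  have hp := (finProdFinEquiv p : Fin (7 * 4)).isLt
  have hf : ∀ (t : Fin 2), flat v (coordEquiv (p, t)) = if t = 0 then (v p).re else (v p).im :=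
    fun t => by simp [flat]
  fin_cases t
  · have e : (⟨(((coordEquiv (p, (0 : Fin 2))) : ℕ) + 1) % 56, Nat.mod_lt _ (by norm_num)⟩ : Fin 56) =
        coordEquiv (p, 1) := Fin.ext (by simp only [hv, Fin.val_zero, Fin.val_one]; omega)
    simp only [Fin.zero_eta, hv, Fin.val_zero, Nat.add_zero, Nat.mul_mod_right, if_true]
    rw [show (⟨(2 * (finProdFinEquiv p : ℕ) + 1) % 56, Nat.mod_lt _ (by norm_num)⟩ : Fin 56) = coordEquiv (p, 1)
      from Fin.ext (by simp only [hv, Fin.val_one]; omega), hf]
    simp [flat, gI]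
  · simp only [Fin.mk_one, hv, Fin.val_one, Nat.mul_add_mod_self_left]
    rw [show (⟨2 * (finProdFinEquiv p : ℕ) + 1 - 1, by omega⟩ : Fin 56) = coordEquiv (p, 0)
      from Fin.ext (by simp only [hv, Fin.val_zero]; omega), hf]
    simp [flat, gI]

theorem vec_rotC (c : ℕ) : vec (rotC c) = gI • vec c := by
  refine flat_injective (funext fun j => ?_)
  rw [flat_gI, flat_vec, wt_rotC c j.isLt]
  by_cases h : (j : ℕ) % 2 = 0
  · rw [if_pos h, if_pos h, flat_vec]
    congr 2
    have := j.isLt
    show (j : ℕ) + 1 = ((j : ℕ) + 1) % 56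
    omega
  · rw [if_neg h, if_neg h, flat_vec]

/-- Population counts of bytes, packed four bits each. -/
def pcTable : ℕ :=
  0x8776766576656554766565546554544376656554655454436554544354434332766565546554544365545443544343326554544354434332544343324332322176656554655454436554544354434332655454435443433254434332433232216554544354434332544343324332322154434332433232214332322132212110

/-- Population count of a byte. -/
def pb (b : ℕ) : ℕ := (pcTable >>> (4 * (b % 256))) % 16

/-- Population count of the first `k` bytes. -/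
def pcK : ℕ → ℕ → ℕ
  | 0, _ => 0
  | k + 1, m => pb m + pcK k (m >>> 8)

/-- Population count below 56 bits. -/
def pc (m : ℕ) : ℕ := pcK 7 m

theorem pb_eq : ∀ b, b < 256 → pb b = ∑ i ∈ Finset.range 8, if b.testBit i then 1 else 0 := by decide +kernel

theorem pcK_eq : ∀ k m, pcK k m = ∑ i ∈ Finset.range (8 * k), if m.testBit i then 1 else 0 := by
  intro k
  induction k with
  | zero => intro m; rfl
  | succ k ih =>
    intro m
    rw [pcK, ih, show 8 * (k + 1) = 8 + 8 * k by ring, Finset.sum_range_add]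
    congr 1
    · rw [show pb m = pb (m % 256) by rw [pb, pb, Nat.mod_mod], pb_eq _ (Nat.mod_lt _ (by norm_num))]
      refine Finset.sum_congr rfl fun i hi => ?_
      rw [show (256 : ℕ) = 2 ^ 8 from rfl, Nat.testBit_mod_two_pow, decide_eq_true (Finset.mem_range.mp hi),
        Bool.true_and]
    · exact Finset.sum_congr rfl fun i _ => by rw [Nat.testBit_shiftRight]

theorem pc_eq (m : ℕ) : pc m = ∑ j : Fin 56, if m.testBit j then 1 else 0 := by
  rw [pc, pcK_eq, Finset.sum_range fun i => if m.testBit i then 1 else 0]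

/-- The real product of packed vectors. -/
def dotC (a b : ℕ) : ℤ :=
  mg a * mg b * ((pc (sup a &&& sup b) : ℤ) - 2 * (pc (sup a &&& sup b &&& (sgm a ^^^ sgm b)) : ℤ))

theorem dot_vec (a b : ℕ) : dot (vec a) (vec b) = dotC a b := by
  simp only [dot, flat_vec, dotC, pc_eq, Nat.cast_sum, Finset.mul_sum, ← Finset.sum_sub_distrib]
  refine Finset.sum_congr rfl fun j _ => ?_
  simp only [wt, Nat.testBit_and, Nat.testBit_xor]
  cases (sup a).testBit j <;> cases (sup b).testBit j <;> cases (sgm a).testBit j <;>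
    cases (sgm b).testBit j <;> simp <;> ring

/-- The Hermitian product. -/
def herm (v w : RuVec) : GaussianInt := ∑ p, star (v p) * w p

/-- The Hermitian product of packed vectors. -/
def hC (a b : ℕ) : GaussianInt := ⟨dotC a b, dotC (rotC a) b⟩

theorem re_sum {ι : Type*} (s : Finset ι) (f : ι → GaussianInt) : (∑ i ∈ s, f i).re = ∑ i ∈ s, (f i).re :=
  map_sum (AddMonoidHom.mk' (fun z : GaussianInt => z.re) fun _ _ => rfl) f s

theorem im_sum {ι : Type*} (s : Finset ι) (f : ι → GaussianInt) : (∑ i ∈ s, f i).im = ∑ i ∈ s, (f i).im :=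
  map_sum (AddMonoidHom.mk' (fun z : GaussianInt => z.im) fun _ _ => rfl) f s

theorem herm_eq (v w : RuVec) : herm v w = ⟨dot v w, dot (gI • v) w⟩ := by
  have hre : ∀ v w : RuVec, (herm v w).re = dot v w := fun v w => by
    rw [dot, ← Equiv.sum_comp coordEquiv, Fintype.sum_prod_type, herm, re_sum]
    refine Finset.sum_congr rfl fun p _ => ?_
    rw [Fin.sum_univ_two]
    simp [flat, Zsqrtd.re_mul]
  have him : (herm v w).im = (herm (gI • v) w).re := by
    rw [herm, herm, im_sum, re_sum]
    refine Finset.sum_congr rfl fun p _ => ?_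
    simp [gI]
    ring
  exact Zsqrtd.ext (hre v w) (him.trans (hre _ _))

theorem herm_vec (a b : ℕ) : herm (vec a) (vec b) = hC a b := by
  rw [herm_eq, ← vec_rotC, dot_vec, dot_vec, hC]

theorem herm_smul (a b : GaussianInt) (v w : RuVec) : herm (a • v) (b • w) = star a * b * herm v w := by
  simp only [herm, Finset.mul_sum, Pi.smul_apply, smul_eq_mul, star_mul']
  exact Finset.sum_congr rfl fun p _ => by ring

end Cfsg.Lib.Rudvalis
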