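import Cfsg.Agent.Rudvalis.Aut.Code
import Cfsg.Agent.Rudvalis.Aut.LineData
import Cfsg.Agent.Rudvalis.Aut.WordsOfCode

/-!
# All shortest vectors of the lattice of the Rudvalis group are listed

The odd coordinates form a word of the parity code. The words of weight at most sixteen are certified one by one.
-/

set_option autoImplicit false

namespace Cfsg.Lib.Rudvalis

open Cfsg.Spor

/-- The packed vector of a line. -/
def lineCode (x : ℕ) : ℕ := lineT.get 12 x

/-- A unit times a packed vector. -/
def rotN : ℕ → ℕ → ℕ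
  | 0, c => c
  | u + 1, c => rotC (rotN u c)

/-- A coded unit multiple of a line. -/
def unitCode (s : ℕ) : ℕ := rotN (s % 4) (lineCode (s / 4))

theorem vec_rotN (u c : ℕ) : vec (rotN u c) = gI ^ u • vec c := by
  induction u with
  | zero => simp [rotN]
  | succ u ih => rw [rotN, vec_rotC, ih, smul_smul, ← pow_succ']

/-- A combination of rows. -/
def comb : List ℕ → ℕ → ℕ
  | [], _ => 0
  | r :: rs, k => (if k % 2 = 1 then r else 0) ^^^ comb rs (k / 2)

theorem comb_xor : ∀ (rs : List ℕ) (k l : ℕ), comb rs (k ^^^ l) = comb rs k ^^^ comb rs l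
  | [], _, _ => by simp [comb]
  | r :: rs, k, l => by
    have h2 : (k ^^^ l) / 2 = k / 2 ^^^ l / 2 := Nat.xor_div_two
    have h1 : (k ^^^ l) % 2 = k % 2 ^^^ l % 2 := Nat.xor_mod_two_pow (n := 1)
    rw [comb, comb, comb, h2, comb_xor rs, h1]
    rcases Nat.mod_two_eq_zero_or_one k with hk | hk <;> rcases Nat.mod_two_eq_zero_or_one l with hl | hl <;>
      simp [hk, hl, Nat.xor_assoc, Nat.xor_left_comm]

theorem comb_zero : ∀ rs : List ℕ, comb rs 0 = 0
  | [] => rfl
  | r :: rs => by rw [comb, Nat.zero_div, comb_zero rs]; simp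

theorem comb_append : ∀ (l₁ l₂ : List ℕ) (k : ℕ),
    comb (l₁ ++ l₂) k = comb l₁ (k % 2 ^ l₁.length) ^^^ comb l₂ (k / 2 ^ l₁.length)
  | [], l₂, k => by simp [comb]
  | r :: l₁, l₂, k => by
    rw [List.cons_append, comb, comb, comb_append l₁, List.length_cons, pow_succ', Nat.mod_mul,
      Nat.add_mul_mod_self_left, Nat.mod_mod, Nat.add_mul_div_left _ _ two_pos,
      Nat.div_eq_of_lt (Nat.mod_lt _ two_pos), zero_add, Nat.div_div_eq_div_mul]
    simp [Nat.xor_assoc]

/-- A bit as an integer modulo two. -/
def b2 (b : Bool) : ZMod 2 := if b then 1 else 0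

theorem b2_xor : ∀ a b : Bool, b2 (a ^^ b) = b2 a + b2 b := by decide

theorem b2_inj : ∀ a b : Bool, b2 a = b2 b → a = b := by decide

theorem comb_bit : ∀ (rs : List ℕ) (k j : ℕ), b2 ((comb rs k).testBit j) =
    ∑ i ∈ Finset.range rs.length, if k.testBit i then b2 ((rs.getD i 0).testBit j) else 0
  | [], _, _ => by simp [comb, b2]
  | r :: rs, k, j => by
    rw [comb, Nat.testBit_xor, b2_xor, comb_bit rs, List.length_cons, Finset.sum_range_succ', add_comm]
    congr 1
    · exact Finset.sum_congr rfl fun i _ => by rw [Nat.testBit_add_one]; rfl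
    · rw [Nat.testBit_zero]
      rcases Nat.mod_two_eq_zero_or_one k with hk | hk <;> simp [hk, b2]

/-- The word with a given key. -/
def wordOf (k : ℕ) : ℕ := comb codeRows k

/-- The parity of the sum of the generators in a mask. -/
def parOf (T : ℕ) : ℕ := comb loMasks T

/-- The coordinates on a support of the sum of the generators in a mask, added up. -/
def usum (S T : ℕ) : ℕ :=
  ((List.range 40).map fun i =>
    if T.testBit i then pc (S &&& loMasks.getD i 0) + 2 * pc (S &&& hiMasks.getD i 0) else 0).sum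

/-- The generators agree with the masks. -/
def masksOK : Bool :=
  decide (loMasks.length = 40) && decide (loKeys.length = 40) &&
    (List.finRange 40).all fun (i : Fin 40) =>
      decide (loMasks.getD i 0 = wordOf (loKeys.getD i 0)) && decide (loKeys.getD i 0 < 2 ^ 19) &&
        (List.range 56).all fun j => digit (genRows.getD i 0) j ==
          (if (loMasks.getD i 0).testBit j then 1 else 0) + 2 * (if (hiMasks.getD i 0).testBit j then 1 else 0)

theorem masks_ok : masksOK = true := by decide +kernel

theorem loMasks_length : loMasks.length = 40 := rfl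

theorem masks_spec (i : Fin 40) : loMasks.getD i 0 = wordOf (loKeys.getD i 0) ∧ loKeys.getD i 0 < 2 ^ 19 ∧
    ∀ j : Fin 56, flat (gen i) j = (((if (loMasks.getD i 0).testBit j then 1 else 0) +
      2 * (if (hiMasks.getD i 0).testBit j then 1 else 0) : ℕ) : ℤ) := by
  have h := masks_ok
  simp only [masksOK, Bool.and_eq_true, List.all_eq_true, decide_eq_true_eq, beq_iff_eq] at h
  obtain ⟨⟨a, b⟩, c⟩ := h.2 i (List.mem_finRange i)
  refine ⟨a, b, fun j => ?_⟩
  rw [flat_gen, c j (List.mem_range.mpr j.isLt)]
  split <;> split <;> rfl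

/-- The odd coordinates form a code word. -/
def InC (v : RuVec) : Prop :=
  ∃ k < 2 ^ 19, ∀ j : Fin 56, ((flat v j : ℤ) : ZMod 2) = b2 ((wordOf k).testBit j)

theorem span_inC {v : RuVec} (hv : v ∈ span) : InC v := by
  induction hv using AddSubgroup.closure_induction with
  | mem x hx =>
    rcases hx with ⟨i, rfl⟩ | ⟨u, rfl⟩
    · obtain ⟨a, b, c⟩ := masks_spec i
      refine ⟨_, b, fun j => ?_⟩
      rw [← a, c j, Int.cast_natCast]
      cases (loMasks.getD i 0).testBit j <;> cases (hiMasks.getD i 0).testBit j <;> rfl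
    · refine ⟨0, by norm_num, fun j => ?_⟩
      rw [wordOf, comb_zero, Nat.zero_testBit, flat_zsmul, Pi.smul_apply, smul_eq_mul, Int.cast_mul]
      exact mul_eq_zero_of_left (by decide) _
  | zero => exact ⟨0, by norm_num, fun j => by rw [wordOf, comb_zero, Nat.zero_testBit, flat_zero]; rfl⟩
  | add x y _ _ hx hy =>
    obtain ⟨k, hk, hx⟩ := hx
    obtain ⟨l, hl, hy⟩ := hy
    refine ⟨k ^^^ l, Nat.xor_lt_two_pow hk hl, fun j => ?_⟩
    rw [wordOf, comb_xor, Nat.testBit_xor, b2_xor, flat_add, Pi.add_apply, Int.cast_add, hx, hy]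
    rfl
  | neg x _ hx =>
    obtain ⟨k, hk, hx⟩ := hx
    refine ⟨k, hk, fun j => ?_⟩
    rw [flat_neg, Pi.neg_apply, Int.cast_neg, hx, ZMod.neg_eq_self_mod_two]

/-- The sum of the generators in a mask. -/
def uvec (T : ℕ) : RuVec := ∑ i : Fin 40, if T.testBit i then gen i else 0

theorem uvec_mem (T : ℕ) : uvec T ∈ span :=
  sum_mem fun i _ => by
    split
    · exact AddSubgroup.subset_closure (Or.inl ⟨i, rfl⟩)
    · exact span.zero_mem

/-- A coordinate of the sum of the generators in a mask. -/
def unum (T j : ℕ) : ℕ := ∑ i : Fin 40, if T.testBit i then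
  (if (loMasks.getD i 0).testBit j then 1 else 0) + 2 * (if (hiMasks.getD i 0).testBit j then 1 else 0) else 0

theorem flat_uvec (T : ℕ) (j : Fin 56) : flat (uvec T) j = (unum T j : ℤ) := by
  show flatHom (uvec T) j = _
  rw [uvec, map_sum, Finset.sum_apply, unum, Nat.cast_sum]
  refine Finset.sum_congr rfl fun i _ => ?_
  split
  · exact (masks_spec i).2.2 j
  · rw [map_zero]; rfl

theorem unum_parity (T j : ℕ) : (unum T j : ZMod 2) = b2 ((parOf T).testBit j) := by
  rw [parOf, comb_bit, loMasks_length, unum, Nat.cast_sum, Finset.sum_range fun i =>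
    if T.testBit i then b2 ((loMasks.getD i 0).testBit j) else 0]
  refine Finset.sum_congr rfl fun i _ => ?_
  cases T.testBit i <;> cases (loMasks.getD i 0).testBit j <;> cases (hiMasks.getD i 0).testBit j <;> rfl

theorem usum_eq (S T : ℕ) : usum S T = ∑ j : Fin 56, if S.testBit j then unum T j else 0 := by
  rw [usum, ← List.sum_toFinset _ List.nodup_range, List.toFinset_range, Finset.sum_range fun i =>
    if T.testBit i then pc (S &&& loMasks.getD i 0) + 2 * pc (S &&& hiMasks.getD i 0) else 0]
  simp only [unum, Finset.ite_sum_zero]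
  rw [Finset.sum_comm]
  refine Finset.sum_congr rfl fun i _ => ?_
  split
  · rw [pc_eq, pc_eq, Finset.mul_sum, ← Finset.sum_add_distrib]
    refine Finset.sum_congr rfl fun j _ => ?_
    simp only [Nat.testBit_and]
    cases S.testBit j <;> simp
  · exact (Finset.sum_eq_zero fun j _ => by simp).symm

/-- The shape of a vector modulo four: odd positions and the next binary digit. -/
structure Shape (v : RuVec) (S N : ℕ) : Prop where
  odd : ∀ j : Fin 56, ∃ w : ℤ, flat v j = (if S.testBit j then 1 else 0) + 2 * w ∧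
    (N.testBit j = true ↔ w % 2 = 1)

theorem shape_eq {v : RuVec} (hv : v ∈ span) {S N : ℕ} (h : Shape v S N) (T : ℕ) :
    (usum S T + 2 * pc (N &&& parOf T)) % 4 = 0 := by
  have hd : (4 : ℤ) ∣ dot (uvec T) v := dot_span (uvec_mem T) hv
  have hc : (4 : ℤ) ∣ dot (uvec T) v - ((usum S T + 2 * pc (N &&& parOf T) : ℕ) : ℤ) := by
    rw [dot, usum_eq, pc_eq, Finset.mul_sum, ← Finset.sum_add_distrib, Nat.cast_sum, ← Finset.sum_sub_distrib]
    refine Finset.dvd_sum fun j _ => ?_
    obtain ⟨w, hw, hn⟩ := h.odd j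
    rw [flat_uvec, hw]
    have hp := unum_parity T j
    have hp2 : ((parOf T).testBit j = true ↔ unum T j % 2 = 1) := by
      rw [← ZMod.natCast_mod] at hp
      rcases Nat.mod_two_eq_zero_or_one (unum T j) with e | e <;> rw [e] at hp ⊢ <;>
        cases hb : (parOf T).testBit j <;> rw [hb] at hp <;> simp_all [b2]
    rw [Nat.testBit_and]
    obtain ⟨a, p, hp01, ha⟩ : ∃ a p : ℕ, p < 2 ∧ unum T j = p + 2 * a :=
      ⟨_, _, Nat.mod_lt _ two_pos, (Nat.mod_add_div _ 2).symm⟩
    obtain ⟨c, n, hn01, hc'⟩ : ∃ (c : ℤ) (n : ℤ), (n = 0 ∨ n = 1) ∧ w = n + 2 * c :=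
      ⟨_, _, Int.emod_two_eq_zero_or_one w, (Int.emod_add_mul_ediv w 2).symm⟩
    have en : (if N.testBit j then (1 : ℤ) else 0) = n := by
      rcases hn01 with rfl | rfl <;> cases hb : N.testBit j <;> simp_all <;> omega
    have ep : (if (parOf T).testBit j then (1 : ℤ) else 0) = p := by
      rcases (show p = 0 ∨ p = 1 by omega) with rfl | rfl <;> cases hb : (parOf T).testBit j <;> simp_all <;> omega
    refine ⟨(c * (p + 2 * a) + a * n), ?_⟩
    have e2 : (if (N.testBit j && (parOf T).testBit j) then (1 : ℤ) else 0) = n * p := by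
      rw [← en, ← ep]; cases N.testBit j <;> cases (parOf T).testBit j <;> rfl
    push_cast
    rw [e2, hc', ha]
    cases S.testBit j <;> simp <;> ring
  have := dvd_sub hd hc
  rw [sub_sub_cancel] at this
  exact Nat.mod_eq_zero_of_dvd (Int.natCast_dvd_natCast.mp this)

theorem exists_shape {v : RuVec} (S : ℕ)
    (hS : ∀ j : Fin 56, ((flat v j : ℤ) : ZMod 2) = b2 (S.testBit j)) :
    ∃ N, N < 2 ^ 56 ∧ Shape v S N := by
  refine ⟨Nat.ofBits fun j : Fin 56 => decide ((flat v j - if S.testBit j then 1 else 0) / 2 % 2 = 1),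
    Nat.ofBits_lt_two_pow _, ⟨fun j => ⟨(flat v j - if S.testBit j then 1 else 0) / 2, ?_, ?_⟩⟩⟩
  · have hd : (2 : ℤ) ∣ flat v j - if S.testBit j then 1 else 0 := by
      refine (ZMod.intCast_zmod_eq_zero_iff_dvd _ 2).mp ?_
      rw [Int.cast_sub, hS]
      cases S.testBit j <;> simp [b2]
    obtain ⟨w, hw⟩ := hd
    omega
  · rw [Nat.testBit_ofBits_lt _ _ j.isLt, Fin.eta, decide_eq_true_iff]

/-- No short sublist adds up to the target. -/
def xfree : ℕ → ℕ → List ℕ → Bool
  | 0, t, _ => !(t == 0)
  | _ + 1, _, [] => true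
  | k + 1, t, x :: l => xfree k (t ^^^ x) l && xfree (k + 1) t l

/-- The sum of a list of masks. -/
def xorAll : List ℕ → ℕ
  | [] => 0
  | x :: l => x ^^^ xorAll l

theorem xfree_spec : ∀ (k t : ℕ) (l s : List ℕ), xfree k t l = true → s.Sublist l → s.length = k → xorAll s ≠ t
  | 0, t, l, s, h, _, hlen => by
    rw [List.length_eq_zero_iff.mp hlen, xorAll]
    simp [xfree] at h
    omega
  | k + 1, t, [], s, _, hs, hlen => by simp [List.sublist_nil.mp hs] at hlen
  | k + 1, t, x :: l, s, h, hs, hlen => by
    simp only [xfree, Bool.and_eq_true] at h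
    cases hs with
    | cons _ hs' => exact xfree_spec (k + 1) t l s h.2 hs' hlen
    | @cons_cons s' _ _ hs' =>
      intro e
      refine xfree_spec k _ l s' h.1 hs' (by simpa using hlen) ?_
      rw [← e, xorAll, Nat.xor_comm x, Nat.xor_assoc, Nat.xor_self, Nat.xor_zero]

theorem xorAll_bit (key : Fin 56 → ℕ) (i : ℕ) : ∀ s : List (Fin 56),
    b2 ((xorAll (s.map key)).testBit i) = (s.map fun j => b2 ((key j).testBit i)).sum
  | [] => by simp [xorAll, b2]
  | x :: s => by rw [List.map_cons, xorAll, Nat.testBit_xor, b2_xor, xorAll_bit key i s]; simp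

theorem xorAll_mask (key : Fin 56 → ℕ) (i N : ℕ) (P : ℕ) (hP : ∀ j : Fin 56, N.testBit j = true →
    (key j).testBit i = P.testBit j) :
    b2 ((xorAll (((List.finRange 56).filter fun j : Fin 56 => N.testBit j).map key)).testBit i) =
      (pc (N &&& P) : ZMod 2) := by
  rw [xorAll_bit, ← List.sum_toFinset _ ((List.nodup_finRange 56).filter _), List.toFinset_filter,
    List.toFinset_finRange, Finset.sum_filter, pc_eq, Nat.cast_sum]
  refine Finset.sum_congr rfl fun j _ => ?_
  rw [Nat.testBit_and]
  cases hN : N.testBit j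
  · simp
  · rw [if_pos rfl, hP j hN]
    cases P.testBit j <;> simp [b2]

/-- The size of a mask as a list. -/
theorem filter_length (N : ℕ) : ((List.finRange 56).filter fun j : Fin 56 => N.testBit j).length = pc N := by
  rw [← List.toFinset_card_of_nodup ((List.nodup_finRange 56).filter _), List.toFinset_filter,
    List.toFinset_finRange, Finset.card_filter, pc_eq]

/-- The key of a certificate. -/
def Ent.key : Ent → ℕ
  | .none k => k
  | .blk k _ _ _ => k
  | .bad k _ => k
  | .good k _ _ _ => k

/-- The check of a certificate. -/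
def Ent.ok : Ent → Bool
  | .none k => wordOf k == 0
  | .blk k us keys h =>
    let S := wordOf k
    pc S == 8 && (decide (keys.length = 56) && (decide (h < 2 ^ us.length) &&
      (keys.all (fun x => decide (x < 2 ^ us.length)) &&
      ((List.range us.length).all (fun t =>
        let T := us.getD t 0
        parOf T &&& S == 0 && ((usum S T / 2 % 2 == 1) == h.testBit t) &&
          (List.range 56).all fun j => (keys.getD j 0).testBit t == (parOf T).testBit j) &&
      (List.range 3).all fun n =>
        xfree n h (((List.finRange 56).filter fun j : Fin 56 => !S.testBit j).map fun j : Fin 56 => keys.getD j 0)))))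
  | .bad k T =>
    let S := wordOf k
    pc S == 16 && (parOf T &&& S == 0 && !(usum S T % 4 == 0))
  | .good k F W sols =>
    let S := wordOf k
    pc S == 16 && (F.all (fun j => decide (j < 56) && S.testBit j) &&
      ((List.range 56).all (fun j => !S.testBit j || (F.contains j || (W.map Prod.fst).contains j)) &&
      (W.all (fun q => (List.range 56).all fun j =>
        !(S.testBit j && !F.contains j) || ((parOf q.2).testBit j == (j == q.1))) &&
      (decide (sols.length = 2 ^ F.length) && (List.range (2 ^ F.length)).all fun m =>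
        let s := sols.getD m 0
        let c := unitCode s
        decide (s / 4 < 4060) && (sup c == S && (c >>> 112 == 0 &&
          ((List.range F.length).all (fun i => (sgm c).testBit (F.getD i 0) == m.testBit i) &&
          W.all fun q => (usum S q.2 + 2 * pc (sgm c &&& S &&& parOf q.2)) % 4 == 0)))))))

end Cfsg.Lib.Rudvalis
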