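import Cfsg.Agent.Rudvalis.Aut.ReduceDef

/-!
# The reduction on the lines, part 0

A check on a quarter of the 4060 lines.
-/

set_option autoImplicit false

namespace Cfsg.Lib.Rudvalis

theorem line_red_0_0 : RuModel.chk lineRedOK 0 128 = true := by decide +kernel

theorem line_red_0_1 : RuModel.chk lineRedOK 128 128 = true := by decide +kernel

theorem line_red_0_2 : RuModel.chk lineRedOK 256 128 = true := by decide +kernel

theorem line_red_0_3 : RuModel.chk lineRedOK 384 128 = true := by decide +kernel

theorem line_red_0_4 : RuModel.chk lineRedOK 512 128 = true := by decide +kernel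

theorem line_red_0_5 : RuModel.chk lineRedOK 640 128 = true := by decide +kernel

theorem line_red_0_6 : RuModel.chk lineRedOK 768 128 = true := by decide +kernel

theorem line_red_0_7 : RuModel.chk lineRedOK 896 128 = true := by decide +kernel

theorem line_red_0 : RuModel.chk lineRedOK 0 1024 = true :=
  (RuModel.chk_join (RuModel.chk_join (RuModel.chk_join (RuModel.chk_join (RuModel.chk_join (RuModel.chk_join (RuModel.chk_join line_red_0_0 line_red_0_1 rfl rfl) line_red_0_2 rfl rfl) line_red_0_3 rfl rfl) line_red_0_4 rfl rfl) line_red_0_5 rfl rfl) line_red_0_6 rfl rfl) line_red_0_7 rfl rfl)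

end Cfsg.Lib.Rudvalis
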