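import Cfsg.Agent.Rudvalis.Aut.ReduceDef

/-!
# The reduction on the lines, part 1

A check on a quarter of the 4060 lines.
-/

set_option autoImplicit false

namespace Cfsg.Lib.Rudvalis

theorem line_red_1_0 : RuModel.chk lineRedOK 1024 128 = true := by decide +kernel

theorem line_red_1_1 : RuModel.chk lineRedOK 1152 128 = true := by decide +kernel

theorem line_red_1_2 : RuModel.chk lineRedOK 1280 128 = true := by decide +kernel

theorem line_red_1_3 : RuModel.chk lineRedOK 1408 128 = true := by decide +kernel

theorem line_red_1_4 : RuModel.chk lineRedOK 1536 128 = true := by decide +kernel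

theorem line_red_1_5 : RuModel.chk lineRedOK 1664 128 = true := by decide +kernel

theorem line_red_1_6 : RuModel.chk lineRedOK 1792 128 = true := by decide +kernel

theorem line_red_1_7 : RuModel.chk lineRedOK 1920 128 = true := by decide +kernel

theorem line_red_1 : RuModel.chk lineRedOK 1024 1024 = true :=
  (RuModel.chk_join (RuModel.chk_join (RuModel.chk_join (RuModel.chk_join (RuModel.chk_join (RuModel.chk_join (RuModel.chk_join line_red_1_0 line_red_1_1 rfl rfl) line_red_1_2 rfl rfl) line_red_1_3 rfl rfl) line_red_1_4 rfl rfl) line_red_1_5 rfl rfl) line_red_1_6 rfl rfl) line_red_1_7 rfl rfl)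

end Cfsg.Lib.Rudvalis
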