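import Cfsg.Agent.Rudvalis.Aut.ReduceDef

/-!
# The reduction on the lines, part 2

A check on a quarter of the 4060 lines.
-/

set_option autoImplicit false

namespace Cfsg.Lib.Rudvalis

theorem line_red_2_0 : RuModel.chk lineRedOK 2048 128 = true := by decide +kernel

theorem line_red_2_1 : RuModel.chk lineRedOK 2176 128 = true := by decide +kernel

theorem line_red_2_2 : RuModel.chk lineRedOK 2304 128 = true := by decide +kernel

theorem line_red_2_3 : RuModel.chk lineRedOK 2432 128 = true := by decide +kernel

theorem line_red_2_4 : RuModel.chk lineRedOK 2560 128 = true := by decide +kernel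

theorem line_red_2_5 : RuModel.chk lineRedOK 2688 128 = true := by decide +kernel

theorem line_red_2_6 : RuModel.chk lineRedOK 2816 128 = true := by decide +kernel

theorem line_red_2_7 : RuModel.chk lineRedOK 2944 128 = true := by decide +kernel

theorem line_red_2 : RuModel.chk lineRedOK 2048 1024 = true :=
  (RuModel.chk_join (RuModel.chk_join (RuModel.chk_join (RuModel.chk_join (RuModel.chk_join (RuModel.chk_join (RuModel.chk_join line_red_2_0 line_red_2_1 rfl rfl) line_red_2_2 rfl rfl) line_red_2_3 rfl rfl) line_red_2_4 rfl rfl) line_red_2_5 rfl rfl) line_red_2_6 rfl rfl) line_red_2_7 rfl rfl)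

end Cfsg.Lib.Rudvalis
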