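import Cfsg.Agent.Rudvalis.Aut.ReduceDef

/-!
# The reduction on the lines, part 3

A check on a quarter of the 4060 lines.
-/

set_option autoImplicit false

namespace Cfsg.Lib.Rudvalis

theorem line_red_3_0 : RuModel.chk lineRedOK 3072 128 = true := by decide +kernel

theorem line_red_3_1 : RuModel.chk lineRedOK 3200 128 = true := by decide +kernel

theorem line_red_3_2 : RuModel.chk lineRedOK 3328 128 = true := by decide +kernel

theorem line_red_3_3 : RuModel.chk lineRedOK 3456 128 = true := by decide +kernel

theorem line_red_3_4 : RuModel.chk lineRedOK 3584 128 = true := by decide +kernel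

theorem line_red_3_5 : RuModel.chk lineRedOK 3712 128 = true := by decide +kernel

theorem line_red_3_6 : RuModel.chk lineRedOK 3840 128 = true := by decide +kernel

theorem line_red_3_7 : RuModel.chk lineRedOK 3968 92 = true := by decide +kernel

theorem line_red_3 : RuModel.chk lineRedOK 3072 988 = true :=
  (RuModel.chk_join (RuModel.chk_join (RuModel.chk_join (RuModel.chk_join (RuModel.chk_join (RuModel.chk_join (RuModel.chk_join line_red_3_0 line_red_3_1 rfl rfl) line_red_3_2 rfl rfl) line_red_3_3 rfl rfl) line_red_3_4 rfl rfl) line_red_3_5 rfl rfl) line_red_3_6 rfl rfl) line_red_3_7 rfl rfl)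

end Cfsg.Lib.Rudvalis
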