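import Cfsg.Agent.Rudvalis.Aut.MapDefs

/-!
# The first generator comes from a lattice map

The images are checked against the first matrix of the permutation model.
-/

set_option autoImplicit false

namespace Cfsg.Lib.Rudvalis

theorem orthA_ok : RuModel.chk (orthOK imgsA) 0 28 = true := by decide +kernel

theorem rowsA_0 : RuModel.chk (rowOK imgsA imgRowsA (RuModel.ru0.mat 0)) 0 14 = true := by decide +kernel

theorem rowsA_1 : RuModel.chk (rowOK imgsA imgRowsA (RuModel.ru0.mat 0)) 14 14 = true := by decide +kernel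

theorem rowsA_2 : RuModel.chk (rowOK imgsA imgRowsA (RuModel.ru0.mat 0)) 28 14 = true := by decide +kernel

theorem rowsA_3 : RuModel.chk (rowOK imgsA imgRowsA (RuModel.ru0.mat 0)) 42 14 = true := by decide +kernel

theorem rowsA_ok : RuModel.chk (rowOK imgsA imgRowsA (RuModel.ru0.mat 0)) 0 56 = true :=
  (RuModel.chk_join (RuModel.chk_join (RuModel.chk_join rowsA_0 rowsA_1 rfl rfl) rowsA_2 rfl rfl) rowsA_3 rfl rfl)

theorem gensA_0 : RuModel.chk (genOK imgsA genImgsA (RuModel.ru0.mat 0)) 0 5 = true := by decide +kernel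

theorem gensA_1 : RuModel.chk (genOK imgsA genImgsA (RuModel.ru0.mat 0)) 5 5 = true := by decide +kernel

theorem gensA_2 : RuModel.chk (genOK imgsA genImgsA (RuModel.ru0.mat 0)) 10 5 = true := by decide +kernel

theorem gensA_3 : RuModel.chk (genOK imgsA genImgsA (RuModel.ru0.mat 0)) 15 5 = true := by decide +kernel

theorem gensA_4 : RuModel.chk (genOK imgsA genImgsA (RuModel.ru0.mat 0)) 20 5 = true := by decide +kernel

theorem gensA_5 : RuModel.chk (genOK imgsA genImgsA (RuModel.ru0.mat 0)) 25 5 = true := by decide +kernel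

theorem gensA_6 : RuModel.chk (genOK imgsA genImgsA (RuModel.ru0.mat 0)) 30 5 = true := by decide +kernel

theorem gensA_7 : RuModel.chk (genOK imgsA genImgsA (RuModel.ru0.mat 0)) 35 5 = true := by decide +kernel

theorem gensA_ok : RuModel.chk (genOK imgsA genImgsA (RuModel.ru0.mat 0)) 0 40 = true :=
  (RuModel.chk_join (RuModel.chk_join (RuModel.chk_join (RuModel.chk_join (RuModel.chk_join (RuModel.chk_join (RuModel.chk_join gensA_0 gensA_1 rfl rfl) gensA_2 rfl rfl) gensA_3 rfl rfl) gensA_4 rfl rfl) gensA_5 rfl rfl) gensA_6 rfl rfl) gensA_7 rfl rfl)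

theorem goodA : GoodMap imgsA (RuModel.ru0.mat 0) :=
  ⟨orthA_ok, ⟨_, rowsA_ok⟩, ⟨_, gensA_ok⟩⟩

end Cfsg.Lib.Rudvalis
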