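import Cfsg.Agent.Rudvalis.Aut.Span
import Cfsg.Agent.Rudvalis.Aut.LineRed0
import Cfsg.Agent.Rudvalis.Aut.LineRed1
import Cfsg.Agent.Rudvalis.Aut.LineRed2
import Cfsg.Agent.Rudvalis.Aut.LineRed3

/-!
# Reduction of the lattice onto the module of the permutation model

Modulo one plus the unit the lattice becomes the space of 28-bit words in which the 4060 points live.
-/

set_option autoImplicit false

namespace Cfsg.Lib.Rudvalis

open Cfsg.Spor

attribute [local irreducible] redCode lineCode redRows dot vec rotC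

theorem coords_mem {c k : ℕ} (h : coordsOK (vec c) k = true) : vec c ∈ span := mem_span_of_coords h

theorem gI_mem {v : RuVec} (hv : v ∈ span) : gI • v ∈ span := map_mem 0 hv

theorem gI_sq_smul (v : RuVec) : gI • gI • v = -v := by
  rw [smul_smul, show gI * gI = -1 from rfl, neg_one_smul]

theorem herm_gI (v w : RuVec) : herm (gI • v) (gI • w) = herm v w := by
  rw [herm_smul, show star gI * gI = 1 from rfl, one_mul]

theorem dot_gI (v w : RuVec) : dot (gI • v) (gI • w) = dot v w := by
  have h := herm_gI v w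
  rw [herm_eq, herm_eq] at h
  exact congrArg Zsqrtd.re h

theorem dot_gI_right (v w : RuVec) : dot v (gI • w) = -dot (gI • v) w := by
  rw [← dot_gI v (gI • w), gI_sq_smul, dot_neg]

/-- The lines of the functionals lie in the lattice. -/
def redMemOK : Bool :=
  (List.range 28).all fun i => coordsOK (vec (redCode i)) (redCoords.getD i 0)

theorem red_mem_ok : redMemOK = true := by decide +kernel

theorem redCode_mem {i : ℕ} (hi : i < 28) : vec (redCode i) ∈ span :=
  mem_span_of_coords (List.all_eq_true.mp red_mem_ok i (List.mem_range.mpr hi))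

theorem phi_dvd {i : ℕ} (hi : i < 28) {v : RuVec} (hv : v ∈ span) :
    (4 : ℤ) ∣ dot (vec (redCode i)) v + dot (vec (rotC (redCode i))) v :=
  dvd_add (dot_span (redCode_mem hi) hv) (dot_span (vec_rotC _ ▸ gI_mem (redCode_mem hi)) hv)

theorem phi_add {i : ℕ} (hi : i < 28) {v : RuVec} (hv : v ∈ span) (w : RuVec) :
    phi i (v + w) = phi i v + phi i w := by
  have hd := phi_dvd hi hv
  unfold phi
  rw [dot_add, dot_add, add_add_add_comm]
  exact Int.add_ediv_of_dvd_left hd

theorem red_add {v w : RuVec} (hv : v ∈ span) (hw : w ∈ span) : red (v + w) = red v ^^^ red w := by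
  rw [red, red, red, ← comb_xor]
  congr 1
  apply Nat.eq_of_testBit_eq
  intro j
  rw [Nat.testBit_xor]
  by_cases hj : j < 28
  · rw [Nat.testBit_ofBits_lt _ _ hj, Nat.testBit_ofBits_lt _ _ hj, Nat.testBit_ofBits_lt _ _ hj]
    rw [phi_add hj hv w]
    generalize phi _ v = a
    generalize phi _ w = b
    rcases Int.emod_two_eq_zero_or_one a with p | p <;> rcases Int.emod_two_eq_zero_or_one b with q | q <;>
      simp [Int.add_emod, p, q]
  · rw [Nat.testBit_ofBits_ge _ _ (by omega), Nat.testBit_ofBits_ge _ _ (by omega),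
      Nat.testBit_ofBits_ge _ _ (by omega)]
    rfl

theorem red_gI {v : RuVec} (hv : v ∈ span) : red (gI • v) = red v := by
  rw [red, red]
  congr 2
  funext i
  have e1 : dot (vec (redCode i)) (gI • v) = -dot (vec (rotC (redCode i))) v := by
    rw [dot_gI_right, vec_rotC]
  have e2 : dot (vec (rotC (redCode i))) (gI • v) = dot (vec (redCode i)) v := by
    rw [vec_rotC, dot_gI]
  obtain ⟨a, ha⟩ := dot_span (redCode_mem i.isLt) hv
  obtain ⟨b, hb⟩ := dot_span (vec_rotC _ ▸ gI_mem (redCode_mem i.isLt) : vec (rotC (redCode i)) ∈ span) hv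
  rw [phi, phi, e1, e2, ha, hb, show -(4 * b) + 4 * a = 4 * (a - b) by ring, ← mul_add,
    Int.mul_ediv_cancel_left _ (by norm_num), Int.mul_ediv_cancel_left _ (by norm_num), decide_eq_decide]
  omega

theorem red_zero : red 0 = 0 := by
  have h := red_add span.zero_mem span.zero_mem
  rw [add_zero, Nat.xor_self] at h
  exact h

theorem red_neg {v : RuVec} (hv : v ∈ span) : red (-v) = red v := by
  rw [← gI_sq_smul, red_gI (gI_mem hv), red_gI hv]

theorem gI_pow_mem {v : RuVec} (hv : v ∈ span) : ∀ u : ℕ, gI ^ u • v ∈ span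
  | 0 => by simpa using hv
  | u + 1 => by rw [pow_succ', mul_smul]; exact gI_mem (gI_pow_mem hv u)

theorem red_pow {v : RuVec} (hv : v ∈ span) : ∀ u : ℕ, red (gI ^ u • v) = red v
  | 0 => by simp
  | u + 1 => by rw [pow_succ', mul_smul, red_gI (gI_pow_mem hv u), red_pow hv u]

theorem pow_mem_iff {v : RuVec} {u : ℕ} : gI ^ u • v ∈ span ↔ v ∈ span := by
  refine ⟨fun h => ?_, fun h => gI_pow_mem h u⟩
  have := gI_pow_mem h (3 * u)
  rwa [smul_smul, ← pow_add, show 3 * u + u = 4 * u by ring, pow_mul, show gI ^ 4 = 1 from rfl, one_pow,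
    one_smul] at this

/-- The vector of a line. -/
def lineVec (x : Fin 4060) : RuVec := vec (lineCode x)

theorem red_lineVec (x : Fin 4060) : red (lineVec x) = RuModel.vv x := by
  have h := RuModel.chk_apply (RuModel.chk_join (RuModel.chk_join (RuModel.chk_join line_red_0 line_red_1 rfl rfl)
    line_red_2 rfl rfl) line_red_3 rfl rfl) x.isLt
  rw [lineRedOK, beq_iff_eq] at h
  rw [← h, red, lineVec]
  simp only [phi, dot_vec]

theorem line_unique {x y : Fin 4060} {a b : ℕ} (hx : lineVec x ∈ span) (hy : lineVec y ∈ span)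
    (h : gI ^ a • lineVec x = gI ^ b • lineVec y) : x = y := by
  refine RuModel.vecs.inj x y ?_
  rw [← red_lineVec, ← red_lineVec, ← red_pow hx a, h, red_pow hy b]

end Cfsg.Lib.Rudvalis
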