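import Cfsg.Agent.Rudvalis.Aut.Complete
import Cfsg.Agent.Rudvalis.Aut.MapData
import Cfsg.Agent.RuModel.Groups

/-!
# Definition of the reduction modulo one plus the unit

The 28 functionals are products with fixed lines.
-/

set_option autoImplicit false

namespace Cfsg.Lib.Rudvalis

open Cfsg.Spor

/-- The packed vector behind a functional. -/
def redCode (i : ℕ) : ℕ := lineCode (redLines.getD i 0)

/-- The value behind a functional. -/
def phi (i : ℕ) (v : RuVec) : ℤ := (dot (vec (redCode i)) v + dot (vec (rotC (redCode i))) v) / 4

/-- The reduction. -/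
def red (v : RuVec) : ℕ := comb redRows (Nat.ofBits fun i : Fin 28 => decide (phi i v % 2 = 1))

/-- A line reduces to its point. -/
def lineRedOK (x : ℕ) : Bool :=
  let c := lineCode x
  comb redRows (Nat.ofBits fun i : Fin 28 =>
    decide ((dotC (redCode i) c + dotC (rotC (redCode i)) c) / 4 % 2 = 1)) == RuModel.vv x

end Cfsg.Lib.Rudvalis
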