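import Mathlib

/-!
# Words exhibiting lattice vectors of the lattice of the Rudvalis group

A word is an index of a table vector and a list of maps to apply.
-/

set_option autoImplicit false

namespace Cfsg.Lib.Rudvalis

/-- Words for the multiples of the unit vectors. -/
def unitWords : List (ℕ × List (Fin 5)) := [
  (0, []),
  (0, [0]),
  (0, [0, 1, 3]),
  (0, [1]),
  (0, [0, 2, 3]),
  (0, [2]),
  (0, [0, 2, 1]),
  (0, [1, 2]),
  (0, [4, 4, 4, 4, 4, 4]),
  (0, [0, 4, 4, 4, 4, 4, 4]),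
  (0, [0, 1, 3, 4, 4, 4, 4, 4, 4]),
  (0, [1, 4, 4, 4, 4, 4, 4]),
  (0, [0, 2, 3, 4, 4, 4, 4, 4, 4]),
  (0, [2, 4, 4, 4, 4, 4, 4]),
  (0, [0, 2, 1, 4, 4, 4, 4, 4, 4]),
  (0, [1, 2, 4, 4, 4, 4, 4, 4]),
  (0, [4, 4, 4, 4, 4]),
  (0, [0, 4, 4, 4, 4, 4]),
  (0, [0, 1, 3, 4, 4, 4, 4, 4]),
  (0, [1, 4, 4, 4, 4, 4]),
  (0, [0, 2, 3, 4, 4, 4, 4, 4]),
  (0, [2, 4, 4, 4, 4, 4]),
  (0, [0, 2, 1, 4, 4, 4, 4, 4]),
  (0, [1, 2, 4, 4, 4, 4, 4]),
  (0, [4, 4, 4, 4]),
  (0, [0, 4, 4, 4, 4]),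
  (0, [0, 1, 3, 4, 4, 4, 4]),
  (0, [1, 4, 4, 4, 4]),
  (0, [0, 2, 3, 4, 4, 4, 4]),
  (0, [2, 4, 4, 4, 4]),
  (0, [0, 2, 1, 4, 4, 4, 4]),
  (0, [1, 2, 4, 4, 4, 4]),
  (0, [4, 4, 4]),
  (0, [0, 4, 4, 4]),
  (0, [0, 1, 3, 4, 4, 4]),
  (0, [1, 4, 4, 4]),
  (0, [0, 2, 3, 4, 4, 4]),
  (0, [2, 4, 4, 4]),
  (0, [0, 2, 1, 4, 4, 4]),
  (0, [1, 2, 4, 4, 4]),
  (0, [4, 4]),
  (0, [0, 4, 4]),
  (0, [0, 1, 3, 4, 4]),
  (0, [1, 4, 4]),
  (0, [0, 2, 3, 4, 4]),
  (0, [2, 4, 4]),
  (0, [0, 2, 1, 4, 4]),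
  (0, [1, 2, 4, 4]),
  (0, [4]),
  (0, [0, 4]),
  (0, [0, 1, 3, 4]),
  (0, [1, 4]),
  (0, [0, 2, 3, 4]),
  (0, [2, 4]),
  (0, [0, 2, 1, 4]),
  (0, [1, 2, 4])]

/-- Forty words. -/
def genWords : List (ℕ × List (Fin 5)) := [
  (1, []),
  (2, []),
  (3, []),
  (5, []),
  (6, []),
  (7, []),
  (8, []),
  (9, []),
  (10, []),
  (11, []),
  (12, []),
  (13, []),
  (14, []),
  (15, []),
  (16, []),
  (17, []),
  (18, []),
  (19, []),
  (1, [0]),
  (1, [1]),
  (1, [2]),
  (1, [4]),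
  (2, [0]),
  (2, [1]),
  (2, [2]),
  (2, [4]),
  (3, [0]),
  (3, [1]),
  (3, [2]),
  (3, [4]),
  (5, [0]),
  (5, [1]),
  (5, [2]),
  (5, [4]),
  (6, [0]),
  (6, [1]),
  (6, [2]),
  (6, [4]),
  (7, [4]),
  (5, [4, 4])]

/-- The generators in terms of the words, packed. -/
def genCombos : List ℕ := [
  151274913740678760792017,
  302518820712520777510422,
  283893978112448023210954,
  642523737574110167158077,
  569032483319555211698890,
  1190229479061479091429468,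
  99228791306276891256330,
  61917459375767230584965,
  25915170867457805092563,
  1234634305458542687208,
  245632901039726583715720,
  43745084248158521298224,
  208063741101794289080495,
  157931357517925620579634,
  4740836076157513856931,
  77893411389831459345377,
  1342130216381059662067,
  156337381530720644425479,
  77699469524657671894679,
  5187305142941312312331,
  47058733730640175791,
  2677146634344828380,
  147862304877468394193,
  4899948219320370328144,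
  1379551471004137492950,
  1342077020071397633325,
  483657163848110341214,
  2111008023487332794562,
  4900794899341297147905,
  6970057615602227392437,
  2120569811578591238088,
  48438219141024393083,
  6962842061126118409638,
  6969841372186168310621,
  4897978989680657979708,
  11539088179483639850,
  39285181651770974863,
  11539085989016281634,
  2387788099146490004,
  2314888287824675488]

end Cfsg.Lib.Rudvalis
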