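import Cfsg.Agent.Rudvalis.Aut.Code
import Cfsg.Agent.Rudvalis.Aut.WordData

/-!
# The lattice of the Rudvalis group is the whole span
-/

set_option autoImplicit false

namespace Cfsg.Lib.Rudvalis

open Cfsg.Spor

/-- The vector of a word. -/
def wordVec (w : ℕ × List (Fin 5)) : RuVec := w.2.foldl (fun v s => mapOf s v) (ruTable.getD w.1 0)

theorem mapOf_mem_lattice (s : Fin 5) {v : RuVec} (hv : v ∈ ruLattice) : mapOf s v ∈ ruLattice := by
  rw [ruLattice, AddSubgroup.mem_sInf] at hv ⊢
  intro L hL
  have h := hL.2 v (hv L hL)
  fin_cases s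
  · exact h.1
  · exact h.2.1
  · exact h.2.2.1
  · exact h.2.2.2.1
  · exact h.2.2.2.2

theorem wordVec_mem {w : ℕ × List (Fin 5)} (h : w.1 < 20) : wordVec w ∈ ruLattice := by
  have h0 : ruTable.getD w.1 0 ∈ ruLattice := by
    rw [ruLattice, AddSubgroup.mem_sInf]
    intro L hL
    rw [List.getD_eq_getElem _ _ (table_ok.1 ▸ h)]
    exact hL.1 _ (List.getElem_mem _)
  rw [wordVec]
  generalize ruTable.getD w.1 0 = v at h0
  induction w.2 generalizing v with
  | nil => exact h0
  | cons s l ih => exact ih _ (mapOf_mem_lattice s h0)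

/-- The coordinates of a word vector. -/
def wordFlat (w : ℕ × List (Fin 5)) : List ℤ :=
  let v := wordVec w
  (List.finRange 56).map fun j => flat v j

/-- The unit words give four times the unit vectors. -/
def unitsOK : Bool :=
  (List.finRange 56).all fun (j : Fin 56) =>
    let w := unitWords.getD j (0, [])
    decide (w.1 < 20) && (wordFlat w == (List.finRange 56).map fun (i : Fin 56) => if i = j then (4 : ℤ) else 0)

theorem units_ok : unitsOK = true := by decide +kernel

/-- The generators are combinations of the words modulo four. -/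
def combosOK : Bool :=
  genWords.all (fun w => decide (w.1 < 20)) && decide (genWords.length = 40) &&
    let T := genWords.map wordFlat
    (List.finRange 40).all fun (i : Fin 40) => (List.finRange 56).all fun (j : Fin 56) =>
      (digit (genRows.getD i 0) j -
        ((List.range 40).map fun k => digit (genCombos.getD i 0) k * (T.getD k []).getD j 0).sum) % 4 == 0

theorem combos_ok : combosOK = true := by decide +kernel

theorem wordFlat_getD (w : ℕ × List (Fin 5)) (j : Fin 56) : (wordFlat w).getD j 0 = flat (wordVec w) j := by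
  simp [wordFlat, List.getD_eq_getElem?_getD]

/-- A subgroup containing the vectors of all the words. -/
def WordsIn (L : AddSubgroup RuVec) : Prop :=
  (∀ j : Fin 56, wordVec (unitWords.getD j (0, [])) ∈ L) ∧ ∀ k < 40, wordVec (genWords.getD k (0, [])) ∈ L

theorem four_mem_of_words {L : AddSubgroup RuVec} (hL : WordsIn L) (u : RuVec) : (4 : ℤ) • u ∈ L := by
  have e4 : ∀ j : Fin 56, unflat (fun i => if i = j then (4 : ℤ) else 0) ∈ L := fun j => by
    have h := List.all_eq_true.mp units_ok j (List.mem_finRange j)
    simp only [Bool.and_eq_true, decide_eq_true_eq, beq_iff_eq] at h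
    convert hL.1 j using 1
    refine flat_injective (funext fun i => ?_)
    rw [flat_unflat, ← wordFlat_getD, h.2, List.getD_eq_getElem?_getD]
    simp
  have : (4 : ℤ) • u = ∑ j : Fin 56, flat u j • unflat (fun i => if i = j then (4 : ℤ) else 0) := by
    refine flat_injective (funext fun i => ?_)
    show _ = flatHom (∑ j : Fin 56, flat u j • unflat (fun i => if i = j then (4 : ℤ) else 0)) i
    rw [map_sum, Finset.sum_apply, flat_zsmul]
    simp only [map_zsmul, Pi.smul_apply, smul_eq_mul]
    rw [Finset.sum_eq_single i]
    · simp [flatHom, flat_unflat, mul_comm]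
    · intro b _ hb; simp [flatHom, flat_unflat, Ne.symm hb]
    · simp
  rw [this]
  exact sum_mem fun j _ => AddSubgroup.zsmul_mem _ (e4 j) _

theorem gen_mem_of_words {L : AddSubgroup RuVec} (hL : WordsIn L) (i : Fin 40) : gen i ∈ L := by
  have h := combos_ok
  simp only [combosOK, Bool.and_eq_true, List.all_eq_true, decide_eq_true_eq, beq_iff_eq] at h
  obtain ⟨⟨hk, hl⟩, hc⟩ := h
  set w : RuVec := ∑ k ∈ Finset.range 40, digit (genCombos.getD i 0) k • wordVec (genWords.getD k (0, [])) with hw
  have hwm : w ∈ L := sum_mem fun k hk' => AddSubgroup.zsmul_mem _ (hL.2 k (Finset.mem_range.mp hk')) _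
  choose q hq using fun j : Fin 56 => Int.dvd_of_emod_eq_zero (hc i (List.mem_finRange i) j (List.mem_finRange j))
  have e : gen i = (4 : ℤ) • unflat q + w := flat_injective (funext fun j => by
    have hwj : flat w j = ((List.range 40).map fun k =>
        digit (genCombos.getD i 0) k * ((genWords.map wordFlat).getD k []).getD j 0).sum := by
      show flatHom w j = _
      rw [hw, map_sum, Finset.sum_apply, ← List.sum_toFinset _ List.nodup_range, List.toFinset_range]
      refine Finset.sum_congr rfl fun k hk' => ?_
      have hk40 := Finset.mem_range.mp hk'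
      rw [map_zsmul, Pi.smul_apply, smul_eq_mul, List.getD_eq_getElem (genWords.map wordFlat) []
        (by rw [List.length_map, hl]; exact hk40), List.getElem_map, wordFlat_getD,
        List.getD_eq_getElem genWords (0, []) (hl ▸ hk40)]
      rfl
    rw [flat_add, flat_zsmul, Pi.add_apply, Pi.smul_apply, flat_unflat, flat_gen, hwj, smul_eq_mul]
    linarith [hq j])
  rw [e]
  exact add_mem (four_mem_of_words hL _) hwm

theorem span_le_of_words {L : AddSubgroup RuVec} (hL : WordsIn L) : span ≤ L := by
  refine (AddSubgroup.closure_le _).mpr ?_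
  rintro x (⟨i, rfl⟩ | ⟨u, rfl⟩)
  · exact gen_mem_of_words hL i
  · exact four_mem_of_words hL u

theorem wordsIn_lattice : WordsIn ruLattice := by
  have h := combos_ok
  simp only [combosOK, Bool.and_eq_true, List.all_eq_true, decide_eq_true_eq, beq_iff_eq] at h
  obtain ⟨⟨hk, hl⟩, -⟩ := h
  refine ⟨fun j => ?_, fun k hk' => wordVec_mem (hk _ ?_)⟩
  · have h := List.all_eq_true.mp units_ok j (List.mem_finRange j)
    simp only [Bool.and_eq_true, decide_eq_true_eq] at h
    exact wordVec_mem h.1
  · rw [List.getD_eq_getElem _ _ (hl ▸ hk')]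
    exact List.getElem_mem _

theorem span_eq : span = ruLattice := le_antisymm (span_le_of_words wordsIn_lattice) lattice_le

/-- The word vectors have norm sixteen. -/
def wordNormsOK : Bool :=
  (unitWords ++ genWords).all fun w => ((wordFlat w).map fun a => a * a).sum == 16

theorem word_norms_ok : wordNormsOK = true := by decide +kernel

theorem dot_wordVec {w : ℕ × List (Fin 5)} (hw : w ∈ unitWords ++ genWords) : dot (wordVec w) (wordVec w) = 16 := by
  have h := beq_iff_eq.mp (List.all_eq_true.mp word_norms_ok w hw)
  rw [wordFlat, List.map_map, ← List.sum_toFinset _ (List.nodup_finRange 56), List.toFinset_finRange] at h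
  exact h

theorem words_length : unitWords.length = 56 ∧ genWords.length = 40 := by decide +kernel

theorem span_le_shortest : span ≤ AddSubgroup.closure {v | v ∈ span ∧ dot v v = 16} := by
  refine span_le_of_words ⟨fun j => ?_, fun k hk => ?_⟩
  · have hj : (j : ℕ) < unitWords.length := words_length.1.symm ▸ j.isLt
    refine AddSubgroup.subset_closure ⟨span_eq ▸ wordsIn_lattice.1 j, dot_wordVec (List.mem_append_left _ ?_)⟩
    rw [List.getD_eq_getElem _ _ hj]
    exact List.getElem_mem _
  · refine AddSubgroup.subset_closure ⟨span_eq ▸ wordsIn_lattice.2 k hk, dot_wordVec (List.mem_append_right _ ?_)⟩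
    rw [List.getD_eq_getElem _ _ (words_length.2.symm ▸ hk)]
    exact List.getElem_mem _

end Cfsg.Lib.Rudvalis
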