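import Cfsg.Agent.Rudvalis.Aut.Complete

/-!
# The words of weight at most sixteen

Modulo the seven blocks there are 4096 classes of words, and the least weight in a class is read off the bytes.
-/

set_option autoImplicit false

namespace Cfsg.Lib.Rudvalis

/-- The first twelve rows. -/
def topRows : List ℕ := codeRows.take 12

/-- The blocks. -/
def blockRows : List ℕ := codeRows.drop 12

/-- The least weight in a class. -/
def low : ℕ → ℕ → ℕ
  | 0, _ => 0
  | k + 1, r => min (pb r) (8 - pb r) + low k (r >>> 8)

/-- The light words of a class. -/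
def survivors (a : ℕ) : List ℕ :=
  let r := comb topRows a
  if Nat.blt 16 (low 7 r) then [] else
    ((List.range 128).filter fun b => Nat.ble (pc (r ^^^ comb blockRows b)) 16).map fun b => a + 4096 * b

/-- All certificates are there. -/
def survivorsOK : Bool :=
  (List.range 4096).flatMap survivors == entsParts.flatten.map Ent.key

theorem survivors_ok : survivorsOK = true := by decide +kernel

theorem blocks_bytes : ∀ b, b < 128 → ∀ n, n < 7 →
    (comb blockRows b >>> (8 * n)) % 256 = 0 ∨ (comb blockRows b >>> (8 * n)) % 256 = 255 := by decide +kernel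

theorem byte_min : ∀ x, x < 256 → min (pb x) (8 - pb x) ≤ pb x ∧ min (pb x) (8 - pb x) ≤ pb (x ^^^ 255) := by
  decide +kernel

theorem low_le : ∀ k r y, (∀ n, n < k → (y >>> (8 * n)) % 256 = 0 ∨ (y >>> (8 * n)) % 256 = 255) →
    low k r ≤ pcK k (r ^^^ y)
  | 0, _, _, _ => le_refl _
  | k + 1, r, y, h => by
    rw [low, pcK]
    refine Nat.add_le_add ?_ ?_
    · have e : ∀ z, pb z = pb (z % 256) := fun z => by rw [pb, pb, Nat.mod_mod]
      rw [e r, e (r ^^^ y), show (256 : ℕ) = 2 ^ 8 from rfl, Nat.xor_mod_two_pow]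
      have hy := h 0 (Nat.succ_pos k)
      rw [Nat.mul_zero, Nat.shiftRight_zero] at hy
      have hm := byte_min (r % 256) (Nat.mod_lt _ (by norm_num))
      rcases hy with hy | hy <;> rw [show y % 2 ^ 8 = _ from hy]
      · rw [Nat.xor_zero]; exact hm.1
      · exact hm.2
    · rw [Nat.shiftRight_xor_distrib]
      refine low_le k _ _ fun n hn => ?_
      rw [← Nat.shiftRight_add, show 8 + 8 * n = 8 * (n + 1) by ring]
      exact h (n + 1) (by omega)

theorem codeRows_split : codeRows = topRows ++ blockRows ∧ topRows.length = 12 := by decide +kernel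

theorem ent_of_light {k : ℕ} (hk : k < 2 ^ 19) (hw : pc (wordOf k) ≤ 16) :
    ∃ e ∈ entsParts.flatten, e.key = k := by
  have ha : k % 4096 < 4096 := Nat.mod_lt _ (by norm_num)
  have hb : k / 4096 < 128 := by omega
  have hsplit : wordOf k = comb topRows (k % 4096) ^^^ comb blockRows (k / 4096) := by
    rw [wordOf, codeRows_split.1, comb_append, codeRows_split.2]
    rfl
  have hlow : low 7 (comb topRows (k % 4096)) ≤ 16 :=
    (low_le 7 _ _ (blocks_bytes _ hb)).trans (show pc _ ≤ 16 from hsplit ▸ hw)
  have hs : k ∈ survivors (k % 4096) := by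
    rw [survivors, if_neg (by simp [Nat.blt]; omega), List.mem_map]
    refine ⟨k / 4096, List.mem_filter.mpr ⟨List.mem_range.mpr hb, ?_⟩, Nat.mod_add_div k 4096⟩
    rw [← hsplit]
    exact Nat.ble_eq ▸ hw
  have hm : k ∈ (List.range 4096).flatMap survivors :=
    List.mem_flatMap.mpr ⟨_, List.mem_range.mpr ha, hs⟩
  rw [beq_iff_eq.mp survivors_ok, List.mem_map] at hm
  exact hm

end Cfsg.Lib.Rudvalis
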